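import Groth.Agent.TorCI.Local
import Groth.Agent.KoszulLib.Exchange
import Groth.Agent.KoszulLib.Kinds
import Groth.Agent.S5803
import Mathlib

/-!
Complete intersection ideals and finite tor dimension.
-/

set_option autoImplicit false
set_option linter.style.haveILetI false
universe u

namespace Groth.Agent.TorCI

open Groth.Agent RingTheory.Sequence

/-- over a noetherian local ring Koszul-regular families in the maximal ideal are regular sequences -/
theorem isWeaklyRegular_of_acyclic {A : Type u} [CommRing A] [IsNoetherianRing A] [IsLocalRing A] {n : ℕ}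
    {g : Fin n → A} (hg : ∀ i, g i ∈ IsLocalRing.maximalIdeal A) (h : Wiebe.Acyclic g) :
    IsWeaklyRegular A (List.ofFn g) := by
  refine Groth.Agent.S5803.result A n g (fun i => ?_)
    (KoszulLib.isQuasiRegular_of_h1 (KoszulLib.isH1Regular_of_acyclic h))
  rw [Ring.jacobson_eq_sInf_isMaximal, Submodule.mem_sInf]
  intro m hm
  rw [IsLocalRing.eq_maximalIdeal hm]
  exact hg i

/-- minimal generators -/
theorem exists_minimal_generators {A : Type u} [CommRing A] [IsNoetherianRing A] [IsLocalRing A] (I : Ideal A) :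
    ∃ (r : ℕ) (F : Fin r → A), Ideal.span (Set.range F) = I ∧
      ∀ b : Fin r → A, ∑ i, b i * F i ∈ IsLocalRing.maximalIdeal A * I → ∀ i, b i ∈ IsLocalRing.maximalIdeal A := by
  classical
  let m := IsLocalRing.maximalIdeal A
  have hex : ∃ r, ∃ F : Fin r → A, Ideal.span (Set.range F) = I :=
    Submodule.fg_iff_exists_fin_generating_family.1 (IsNoetherian.noetherian I)
  obtain ⟨F, hF⟩ := Nat.find_spec hex
  refine ⟨Nat.find hex, F, hF, fun b hb i => ?_⟩
  by_contra hbi
  have hu : IsUnit (b i) := by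
    by_contra h
    exact hbi ((IsLocalRing.mem_maximalIdeal _).2 h)
  obtain ⟨k, hk⟩ : ∃ k, Nat.find hex = k + 1 := ⟨Nat.find hex - 1, by have := i.pos; lia⟩
  let e : Fin (k + 1) ≃ Fin (Nat.find hex) := finCongr hk.symm
  let j := e.symm i
  let F' : Fin k → A := fun l => F (e (j.succAbove l))
  have hle : I ≤ Ideal.span (Set.range F') := by
    refine Submodule.le_of_le_smul_of_le_jacobson_bot (IsNoetherian.noetherian I)
      (IsLocalRing.maximalIdeal_le_jacobson ⊥) ?_
    have hrest : ∀ l, l ≠ i → F l ∈ Ideal.span (Set.range F') := fun l hl => by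
      obtain ⟨l', hl'⟩ := Fin.exists_succAbove_eq (show e.symm l ≠ j from fun h => hl (e.symm.injective h))
      exact Ideal.subset_span ⟨l', by simp [F', hl']⟩
    have hFi : F i ∈ Ideal.span (Set.range F') ⊔ m • I := by
      rw [← Ideal.unit_mul_mem_iff_mem _ hu]
      have hsplit : b i * F i = (∑ l, b l * F l) - ∑ l ∈ Finset.univ.erase i, b l * F l := by
        rw [← Finset.add_sum_erase _ _ (Finset.mem_univ i), add_sub_cancel_right]
      rw [hsplit]
      refine Ideal.sub_mem _ (Submodule.mem_sup_right hb) (Submodule.mem_sup_left (Ideal.sum_mem _ fun l hl => ?_))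
      exact Ideal.mul_mem_left _ _ (hrest l (Finset.ne_of_mem_erase hl))
    refine (le_of_eq hF.symm).trans (Ideal.span_le.2 ?_)
    rintro _ ⟨l, rfl⟩
    by_cases hl : l = i
    · exact hl ▸ hFi
    · exact Submodule.mem_sup_left (hrest l hl)
  have hle' : Ideal.span (Set.range F') ≤ I := Ideal.span_le.2 (by
    rintro _ ⟨l, rfl⟩
    exact hF.le (Ideal.subset_span ⟨_, rfl⟩))
  exact Nat.find_min hex (show k < Nat.find hex by lia) ⟨F', le_antisymm hle' hle⟩

/-- **splitting of a complete intersection** -/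
theorem exists_regular_of_inj {A : Type u} [CommRing A] [IsNoetherianRing A] [IsLocalRing A] (I J : Ideal A)
    (hIJ : I ≤ J) (hJ : J ≠ ⊤)
    (hinj : ∀ x ∈ I, x ∈ IsLocalRing.maximalIdeal A * J → x ∈ IsLocalRing.maximalIdeal A * I)
    (hJreg : ∃ rs : List A, Ideal.ofList rs = J ∧ IsRegular A rs) :
    (∃ rs : List A, Ideal.ofList rs = I ∧ IsRegular A rs) ∧
      ∃ rs' : List (A ⧸ I), Ideal.ofList rs' = J.map (Ideal.Quotient.mk I) ∧ IsRegular (A ⧸ I) rs' := by
  obtain ⟨rs, hrs, hreg⟩ := hJreg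
  let m := IsLocalRing.maximalIdeal A
  have hJm : J ≤ m := IsLocalRing.le_maximalIdeal hJ
  let f := rs.get
  have hfJ : Ideal.span (Set.range f) = J := by
    rw [← hrs]
    show Ideal.span (Set.range rs.get) = Ideal.span {x | x ∈ rs}
    rw [Set.range_list_get]
  have hfa : Wiebe.Acyclic f := KoszulLib.acyclic_of_isWeaklyRegular' (by
    rw [List.ofFn_get]; exact hreg.toIsWeaklyRegular)
  obtain ⟨r, F, hFI, hind⟩ := exists_minimal_generators I
  have hFJ : ∀ i, F i ∈ J := fun i => hIJ (hFI.le (Ideal.subset_span ⟨i, rfl⟩))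
  obtain ⟨e, h, hre, hhJ, hspan⟩ := KoszulLib.exists_exchange (KoszulLib.isH1Regular_of_acyclic hfa)
    (hfJ.symm ▸ hJ) F (fun i => hfJ.symm ▸ hFJ i)
    (fun b hb => hind b (hinj _
      (Ideal.sum_mem _ fun i _ => Ideal.mul_mem_left _ _ (hFI.le (Ideal.subset_span ⟨i, rfl⟩))) (hfJ ▸ hb)))
    (J : Set A) (fun x hx => hfJ.symm ▸ hx) (le_sup_of_le_right (hfJ.le.trans (Ideal.span_eq J).ge))
  let g := Fin.append F h
  have hgspan : Ideal.span (Set.range g) = J := hspan.symm.trans hfJ
  have hga : Wiebe.Acyclic g := KoszulLib.acyclic_of_length_le hfa hspan (le_of_eq hre)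
  have hgw : IsWeaklyRegular A (List.ofFn g) := isWeaklyRegular_of_acyclic
    (fun i => hJm (hgspan.le (Ideal.subset_span ⟨i, rfl⟩))) hga
  rw [List.ofFn_fin_append, isWeaklyRegular_append_iff] at hgw
  have hofF : Ideal.ofList (List.ofFn F) = I := by
    rw [← hFI]
    show Ideal.span {x | x ∈ List.ofFn F} = _
    congr 1
    ext x
    simp [List.mem_ofFn]
  have hFm : ∀ x ∈ List.ofFn F, x ∈ m := fun x hx => by
    obtain ⟨i, rfl⟩ := List.mem_ofFn.1 hx
    exact hJm (hFJ i)
  refine ⟨⟨List.ofFn F, hofF,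
    (IsLocalRing.isRegular_iff_isWeaklyRegular_of_subset_maximalIdeal hFm).2 hgw.1⟩,
    (List.ofFn h).map (Ideal.Quotient.mk I), ?_, ?_⟩
  · rw [← Ideal.map_ofList]
    refine le_antisymm (Ideal.map_mono ?_) ?_
    · show Ideal.span {x | x ∈ List.ofFn h} ≤ J
      refine Ideal.span_le.2 fun x hx => ?_
      obtain ⟨i, rfl⟩ := List.mem_ofFn.1 hx
      exact hhJ i
    · rw [← hgspan, Ideal.map_span, Ideal.span_le]
      rintro _ ⟨_, ⟨i, rfl⟩, rfl⟩
      induction i using Fin.addCases with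
      | left i =>
        rw [SetLike.mem_coe, show Ideal.Quotient.mk I (g (Fin.castAdd e i)) = 0 from
          Ideal.Quotient.eq_zero_iff_mem.2 (by simpa [g] using hFI.le (Ideal.subset_span ⟨i, rfl⟩))]
        exact zero_mem _
      | right i =>
        refine Ideal.mem_map_of_mem _ (Ideal.subset_span ?_)
        show g (Fin.natAdd r i) ∈ List.ofFn h
        simp [g, List.mem_ofFn]
  · have hw : IsWeaklyRegular (A ⧸ I) ((List.ofFn h).map (algebraMap A (A ⧸ I))) := by
      rw [isWeaklyRegular_map_algebraMap_iff]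
      have heq : (Ideal.ofList (List.ofFn F) • ⊤ : Submodule A A) = I := by
        rw [hofF, smul_eq_mul, Ideal.mul_top]
      exact ((Submodule.quotEquivOfEq _ _ heq).isWeaklyRegular_congr _).1 hgw.2
    haveI : Nontrivial (A ⧸ I) := Ideal.Quotient.nontrivial_iff.2 (ne_top_of_le_ne_top hJ hIJ)
    haveI : IsLocalRing (A ⧸ I) := .of_surjective' (Ideal.Quotient.mk I) Ideal.Quotient.mk_surjective
    refine (IsLocalRing.isRegular_iff_isWeaklyRegular_of_subset_maximalIdeal fun x hx => ?_).2 hw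
    obtain ⟨y, hy, rfl⟩ := List.mem_map.1 hx
    obtain ⟨i, rfl⟩ := List.mem_ofFn.1 hy
    intro hu
    exact (IsLocalRing.mem_maximalIdeal _).1 (hJm (hhJ i))
      ((IsLocalHom.of_surjective (Ideal.Quotient.mk I) Ideal.Quotient.mk_surjective).map_nonunit _ hu)

theorem exists_regular_of_tor {A : Type u} [CommRing A] [IsNoetherianRing A] [IsLocalRing A] (I J : Ideal A)
    (hIJ : I ≤ J) (hJ : J ≠ ⊤) [Algebra (A ⧸ I) (A ⧸ J)] [IsScalarTower A (A ⧸ I) (A ⧸ J)] (N : ℕ)
    (hTor : ∀ p, N < p → Subsingleton (DRing.Tor (A ⧸ I) p (A ⧸ J)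
      ((A ⧸ I) ⧸ (IsLocalRing.maximalIdeal A).map (Ideal.Quotient.mk I))))
    (hJreg : ∃ rs : List A, Ideal.ofList rs = J ∧ IsRegular A rs) :
    (∃ rs : List A, Ideal.ofList rs = I ∧ IsRegular A rs) ∧
      ∃ rs' : List (A ⧸ I), Ideal.ofList rs' = J.map (Ideal.Quotient.mk I) ∧ IsRegular (A ⧸ I) rs' :=
  exists_regular_of_inj I J hIJ hJ (mem_maximal_mul I J hIJ hJ N hTor) hJreg

end Groth.Agent.TorCI
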