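import Groth.Agent.Cohen.Structure
import Groth.Agent.EGA41Cohen.Basic
import Groth.Agent.S2456
import Groth.Agent.S0581
import Groth.Agent.CotT.CI
import Groth.Agent.SyntLib.AbsCI
import Groth.Agent.RegLoc.Order
import Groth.Prelude.Def_EGA41

/-!
# Cohen presentations of local homomorphisms of complete local rings
-/

set_option autoImplicit false
set_option linter.style.haveILetI false
set_option backward.isDefEq.respectTransparency false
universe u

open IsLocalRing RingTheory.Sequence MvPowerSeries

namespace Groth.Agent.TorCI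

/-- coefficient rings, keeping track of the characteristic -/
theorem exists_coefficientsEGA (R : Type u) [CommRing R] [IsLocalRing R] [IsAdicComplete (maximalIdeal R) R] :
    ∃ (Λ : Type u) (_ : CommRing Λ) (_ : IsLocalRing Λ), EGA41.IsCohenRingEGA Λ ∧
      ∃ g : Λ →+* R, Function.Surjective ((residue R).comp g) := by
  obtain ⟨q, hq⟩ := CharP.exists (ResidueField R)
  rcases CharP.char_is_prime_or_zero (ResidueField R) q with hp | h0
  · haveI := Fact.mk hp
    obtain ⟨Λ, _, _, hcoh, -, hlift⟩ := Cohen.exists_cohenRing q (ResidueField R)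
    haveI : IsAdicComplete (RingHom.ker (residue R)) R := by rw [IsLocalRing.ker_residue]; infer_instance
    obtain ⟨θ, hθ⟩ := hlift R (residue R) residue_surjective inferInstance
    exact ⟨Λ, inferInstance, inferInstance, Or.inr hcoh, θ, hθ⟩
  · subst h0
    haveI : CharZero (ResidueField R) := CharP.charP_to_charZero _
    obtain ⟨s, hs⟩ := Groth.Agent.S0579.result R
    exact ⟨ResidueField R, inferInstance, inferInstance, Or.inl ⟨Field.toIsField _, inferInstance⟩, s,
      fun a => ⟨a, DFunLike.congr_fun hs a⟩⟩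

/-- the properties of coefficient rings that are used -/
theorem ega_spec {W : Type u} [CommRing W] [IsLocalRing W] (hW : EGA41.IsCohenRingEGA W) :
    ∃ q : ℕ, CharP (ResidueField W) q ∧ maximalIdeal W = Ideal.span {(q : W)} ∧ (q ≠ 0 → (q : W) ≠ 0) ∧
      IsAdicComplete (maximalIdeal W) W ∧ IsRegularLocalRing W := by
  rcases hW with ⟨hf, h0⟩ | hW
  · letI := hf.toField
    have hm : maximalIdeal W = ⊥ := IsLocalRing.isField_iff_maximalIdeal_eq.mp hf
    haveI : CharZero (ResidueField W) := charZero_of_injective_ringHom (residue W).injective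
    refine ⟨0, CharP.ofCharZero _, by simp [hm], fun h => absurd rfl h, ?_, inferInstance⟩
    rw [hm]
    infer_instance
  · obtain ⟨p, hdom, hp, hch, hmax, hp0, hc, hdvr⟩ := EGA41Cohen.cohen_spec hW
    haveI := hdom; haveI := hdvr
    exact ⟨p, hch, hmax, fun _ => hp0, hc, inferInstance⟩

theorem charP_eq_of_hom {A B : Type u} [CommRing A] [CommRing B] [IsLocalRing A] [IsLocalRing B] (φ : A →+* B)
    [IsLocalHom φ] {p q : ℕ} [hp : CharP (ResidueField A) p] [hq : CharP (ResidueField B) q] : p = q :=
  ((RingHom.charP_iff_charP (ResidueField.map φ) q).mpr hq).eq _ hp |>.symm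

theorem dim_ps {T : Type u} [CommRing T] [IsRegularLocalRing T] :
    ∀ n : ℕ, ringKrullDim (MvPowerSeries (Fin n) T) = ringKrullDim T + (n : WithBot ℕ∞) := by
  intro n
  refine le_antisymm (S0581.dim_mvPowerSeries_le T n) ?_
  induction n with
  | zero => rw [ringKrullDim_eq_of_ringEquiv (MvPowerSeries.isEmptyEquiv (Fin 0) T).toRingEquiv, Nat.cast_zero, add_zero]
  | succ n ih =>
    rw [ringKrullDim_eq_of_ringEquiv (MvPowerSeries.finSuccEquiv T n).toRingEquiv, Nat.cast_succ, ← add_assoc]
    refine le_trans (add_le_add ih le_rfl) ?_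
    exact ringKrullDim_succ_le_of_surjective (PowerSeries.constantCoeff (R := MvPowerSeries (Fin n) T))
      (fun a => ⟨PowerSeries.C a, PowerSeries.constantCoeff_C a⟩)
      (MvPowerSeries.X_mem_nonzeroDivisors (i := ())) (by exact PowerSeries.constantCoeff_X)

theorem span_X_le_ker {T : Type u} [CommRing T] (n : ℕ) :
    RingHom.ker (constantCoeff (σ := Fin n) (R := T)) = Ideal.span (Set.range X) := by
  refine le_antisymm (fun f hf => ?_) (Ideal.span_le.2 ?_)
  · have := ArtPow.sub_C_constantCoeff_mem f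
    rwa [show constantCoeff f = 0 from hf, map_zero, sub_zero] at this
  · rintro _ ⟨i, rfl⟩
    exact constantCoeff_X i

/-- the list `X₁, …, Xₙ` followed by `l` -/
noncomputable def xs (n : ℕ) (T : Type u) [CommRing T] (l : List ℕ) : List (MvPowerSeries (Fin n) T) :=
  List.ofFn X ++ l.map (fun a : ℕ => (a : MvPowerSeries (Fin n) T))

theorem ofList_xs (n : ℕ) (T : Type u) [CommRing T] (l : List ℕ) :
    Ideal.ofList (xs n T l) =
      (Ideal.ofList (l.map (fun a : ℕ => (a : T)))).comap (constantCoeff (σ := Fin n) (R := T)) := by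
  have h : (Ideal.ofList (l.map (fun a : ℕ => (a : T)))) =
      (Ideal.ofList (l.map (fun a : ℕ => (a : MvPowerSeries (Fin n) T)))).map (constantCoeff (σ := Fin n) (R := T)) := by
    simp [Ideal.map_ofList, List.map_map, Function.comp_def]
  rw [h, Ideal.comap_map_of_surjective _ (fun a => ⟨C a, constantCoeff_C a⟩), ← RingHom.ker_eq_comap_bot,
    span_X_le_ker, xs, Ideal.ofList_append, sup_comm]
  congr 1
  exact congrArg Ideal.span (Set.ext fun x => by simp [List.mem_ofFn'])

/-- the quotient by `xs` -/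
noncomputable def xsEquiv (n : ℕ) (T : Type u) [CommRing T] (l : List ℕ) :
    (MvPowerSeries (Fin n) T ⧸ Ideal.ofList (xs n T l)) ≃+* T ⧸ Ideal.ofList (l.map (fun a : ℕ => (a : T))) :=
  (Ideal.quotEquivOfEq (by rw [← RingHom.comap_ker, Ideal.mk_ker]; exact ofList_xs n T l)).trans
    (RingHom.quotientKerEquivOfSurjective
      (f := (Ideal.Quotient.mk _).comp (constantCoeff (σ := Fin n) (R := T)))
      (Ideal.Quotient.mk_surjective.comp fun a => ⟨C a, constantCoeff_C a⟩))

theorem xs_length (n : ℕ) (T : Type u) [CommRing T] (l : List ℕ) : (xs n T l).length = n + l.length := by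
  simp [xs]

theorem xs_regular {T : Type u} [CommRing T] [IsRegularLocalRing T] (n : ℕ) (l : List ℕ)
    (hl : IsWeaklyRegular T (l.map (fun a : ℕ => (a : T))))
    (hne : Ideal.ofList (l.map (fun a : ℕ => (a : T))) ≠ ⊤) :
    IsWeaklyRegular (MvPowerSeries (Fin n) T) (xs n T l) ∧
      ringKrullDim (MvPowerSeries (Fin n) T) =
        ringKrullDim (T ⧸ Ideal.ofList (l.map (fun a : ℕ => (a : T)))) + ((n + l.length : ℕ) : WithBot ℕ∞) := by
  haveI := Cohen.isRegularLocalRing_mvPowerSeries T n
  have h1 := CotT.dim_of_isWeaklyRegular _ hne hl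
  rw [List.length_map] at h1
  have h2 : ringKrullDim (MvPowerSeries (Fin n) T) =
      ringKrullDim (T ⧸ Ideal.ofList (l.map (fun a : ℕ => (a : T)))) + ((n + l.length : ℕ) : WithBot ℕ∞) := by
    rw [dim_ps n, ← h1, Nat.cast_add]
    ac_rfl
  refine ⟨CotT.isWeaklyRegular_of_dim _ ?_ ?_, h2⟩
  · rw [ofList_xs]
    exact Ideal.comap_ne_top _ hne
  · rw [ringKrullDim_eq_of_ringEquiv (xsEquiv n T l), xs_length, h2, add_comm]

/-- power series over a coefficient ring: what is needed -/
theorem coeff_ps {W : Type u} [CommRing W] [IsLocalRing W] (hW : EGA41.IsCohenRingEGA W) (m : ℕ) :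
    ∃ (q : ℕ) (l : List ℕ) (_ : IsRegularLocalRing (MvPowerSeries (Fin m) W)),
      CharP (ResidueField (MvPowerSeries (Fin m) W)) q ∧ l = (if q = 0 then [] else [q]) ∧
      IsAdicComplete (maximalIdeal (MvPowerSeries (Fin m) W)) (MvPowerSeries (Fin m) W) ∧
      Ideal.ofList (xs m W l) = maximalIdeal (MvPowerSeries (Fin m) W) ∧
      ringKrullDim (MvPowerSeries (Fin m) W) = ((m + l.length : ℕ) : WithBot ℕ∞) ∧
      IsWeaklyRegular (MvPowerSeries (Fin m) W) (l.map (fun a : ℕ => (a : MvPowerSeries (Fin m) W))) ∧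
      Ideal.ofList (l.map (fun a : ℕ => (a : MvPowerSeries (Fin m) W))) ≠ ⊤ ∧
      IsRegularLocalRing
        (MvPowerSeries (Fin m) W ⧸ Ideal.ofList (l.map (fun a : ℕ => (a : MvPowerSeries (Fin m) W)))) := by
  obtain ⟨q, hq, hmax, hq0, hc, hreg⟩ := ega_spec hW
  haveI := hc; haveI := hreg
  haveI := Cohen.isRegularLocalRing_mvPowerSeries W m
  haveI := RegLoc.isDomain (A := W)
  haveI := RegLoc.isDomain (A := MvPowerSeries (Fin m) W)
  let S := MvPowerSeries (Fin m) W
  let l : List ℕ := if q = 0 then [] else [q]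
  have hcast : ∀ {U : Type u} [CommRing U], (q = 0 → (l.map (fun a : ℕ => (a : U))) = []) ∧
      (q ≠ 0 → (l.map (fun a : ℕ => (a : U))) = [(q : U)]) := fun {U} _ =>
    ⟨fun h => by simp [l, h], fun h => by simp [l, h]⟩
  have hone : ∀ {U : Type u} [CommRing U] [IsDomain U], (q ≠ 0 → (q : U) ≠ 0) →
      IsWeaklyRegular U (l.map (fun a : ℕ => (a : U))) := fun {U} _ _ hU => by
    by_cases h : q = 0
    · rw [hcast.1 h]
      exact IsWeaklyRegular.nil _ _
    · rw [hcast.2 h]
      refine (isWeaklyRegular_cons_iff _ _ _).2 ⟨fun a b hab => ?_, IsWeaklyRegular.nil _ _⟩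
      exact mul_left_cancel₀ (hU h) hab
  have hofW : Ideal.ofList (l.map (fun a : ℕ => (a : W))) = maximalIdeal W := by
    by_cases h : q = 0
    · rw [hcast.1 h, hmax, h]
      simp
    · rw [hcast.2 h, hmax, Ideal.ofList_singleton]
  have hS : q ≠ 0 → (q : S) ≠ 0 := fun h hz => hq0 h (by
    simpa using congrArg (constantCoeff (σ := Fin m) (R := W)) hz)
  have hxs : Ideal.ofList (xs m W l) = maximalIdeal S := by
    ext f
    rw [ofList_xs, hofW, Ideal.mem_comap, ArtKit.mem_maximalIdeal_iff_constantCoeff]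
  have hl := hone hq0
  have hne : Ideal.ofList (l.map (fun a : ℕ => (a : W))) ≠ ⊤ := hofW ▸ (maximalIdeal.isMaximal W).ne_top
  obtain ⟨-, hdim⟩ := xs_regular m l hl hne
  rw [hofW, ringKrullDim_eq_zero_of_isField
    ((Ideal.Quotient.maximal_ideal_iff_isField_quotient _).mp inferInstance), zero_add] at hdim
  have hchar : CharP (ResidueField S) q := by
    haveI : IsLocalHom (constantCoeff (σ := Fin m) (R := W)) :=
      ⟨fun a ha => MvPowerSeries.isUnit_iff_constantCoeff.mpr ha⟩
    exact (RingHom.charP_iff_charP (ResidueField.map (constantCoeff (σ := Fin m) (R := W))) q).mpr hq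
  have hlS := hone hS
  have hneS : Ideal.ofList (l.map (fun a : ℕ => (a : S))) ≠ ⊤ := by
    refine ne_top_of_le_ne_top (maximalIdeal.isMaximal S).ne_top ?_
    rw [← hxs, xs, Ideal.ofList_append]
    exact le_sup_right
  refine ⟨q, l, inferInstance, hchar, rfl, ArtKit.isAdicComplete_mvPowerSeries, hxs, hdim, hlS, hneS, ?_⟩
  -- the reduction is regular
  let I := Ideal.ofList (l.map (fun a : ℕ => (a : S)))
  haveI : Nontrivial (S ⧸ I) := Ideal.Quotient.nontrivial_iff.2 hneS
  haveI : IsLocalRing (S ⧸ I) := .of_surjective' (Ideal.Quotient.mk I) Ideal.Quotient.mk_surjective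
  refine IsRegularLocalRing.of_spanFinrank_maximalIdeal_le _ ?_
  have hgen : maximalIdeal (S ⧸ I) = Ideal.span (Ideal.Quotient.mk I '' Set.range X) := by
    haveI : IsLocalHom (Ideal.Quotient.mk I) := IsLocalHom.of_surjective _ Ideal.Quotient.mk_surjective
    rw [← SyntLib.map_maximalIdeal_of_surjective (Ideal.Quotient.mk I) Ideal.Quotient.mk_surjective, ← hxs, xs,
      Ideal.ofList_append, Ideal.map_sup, Ideal.map_quotient_self, sup_bot_eq]
    show (Ideal.span {r | r ∈ List.ofFn X}).map _ = _
    rw [show {r | r ∈ List.ofFn (X : Fin m → S)} = Set.range X from Set.ext fun x => by simp [List.mem_ofFn'],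
      Ideal.map_span]
  have h3 : (maximalIdeal (S ⧸ I)).spanFinrank ≤ m := by
    rw [hgen]
    refine (Submodule.spanFinrank_span_le_ncard_of_finite ((Set.finite_range _).image _)).trans ?_
    refine (Set.ncard_image_le (Set.finite_range _)).trans ?_
    rw [← Set.image_univ]
    exact (Set.ncard_image_le Set.finite_univ).trans (by simp)
  obtain ⟨d, hd⟩ := SerreReg.exists_dim_nat (S ⧸ I)
  have h4 := CotT.dim_of_isWeaklyRegular _ hneS hlS
  rw [List.length_map, hd, show ringKrullDim S = _ from hdim] at h4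
  have h5 : l.length + d = m + l.length := by exact_mod_cast h4
  rw [hd]
  exact_mod_cast h3.trans (by omega)

theorem surjective_of_coefficients {W A : Type u} {n : ℕ} [CommRing W] [CommRing A] [IsLocalRing A]
    [IsAdicComplete (maximalIdeal A) A] (f : MvPowerSeries (Fin n) W →+* A) (g : W →+* A)
    (hfg : ∀ c, f (algebraMap W (MvPowerSeries (Fin n) W) c) = g c)
    (hg : Function.Surjective ((residue A).comp g)) (a : Fin n → A)
    (ha : Submodule.span A (Set.range a) = maximalIdeal A) (hX : ∀ i, f (X i) = a i) :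
    Function.Surjective f := by
  let I : Ideal (MvPowerSeries (Fin n) W) := Ideal.span (Set.range X)
  have hI : I.map f = maximalIdeal A := by
    rw [Ideal.map_span, ← Set.range_comp, show f ∘ X = a from funext hX]
    exact ha
  haveI : IsAdicComplete I (MvPowerSeries (Fin n) W) := inferInstance
  haveI : IsHausdorff (I.map f) A := by rw [hI]; infer_instance
  refine surjective_of_mk_map_comp_surjective (I := I) f fun z => ?_
  obtain ⟨z, rfl⟩ := Ideal.Quotient.mk_surjective z
  obtain ⟨c, hc⟩ := hg (residue A z)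
  refine ⟨algebraMap W _ c, ?_⟩
  rw [RingHom.comp_apply, hfg, Ideal.Quotient.eq]
  exact hI ▸ (Ideal.Quotient.eq.mp hc : g c - z ∈ maximalIdeal A)

theorem isLocalHom_of_coefficients {W A : Type u} [CommRing W] [IsLocalRing W] [CommRing A] [IsLocalRing A]
    (g : W →+* A) (hg : Function.Surjective ((residue A).comp g)) : IsLocalHom g :=
  haveI : IsLocalHom ((residue A).comp g) := IsLocalHom.of_surjective _ hg
  ⟨fun w hw => isUnit_of_map_unit ((residue A).comp g) w (hw.map (residue A))⟩

/-- A local homomorphism of complete Noetherian local rings is covered by a flat homomorphism of regular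
complete local rings with regular closed fibre. -/
theorem exists_good_cover {A B : Type u} [CommRing A] [CommRing B] [IsNoetherianRing A] [IsNoetherianRing B]
    [IsLocalRing A] [IsLocalRing B] [IsAdicComplete (maximalIdeal A) A] [IsAdicComplete (maximalIdeal B) B]
    (φ : A →+* B) [IsLocalHom φ] :
    ∃ (R : Type u) (_ : CommRing R) (_ : IsRegularLocalRing R) (P : Type u) (_ : CommRing P)
      (_ : IsRegularLocalRing P) (ρ : R →+* P) (_ : IsLocalHom ρ) (π : R →+* A) (τ : P →+* B),
      ρ.Flat ∧ IsRegularLocalRing (P ⧸ (maximalIdeal R).map ρ) ∧ Function.Surjective π ∧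
        Function.Surjective τ ∧ τ.comp ρ = φ.comp π ∧
        IsAdicComplete (maximalIdeal P) P ∧ IsAdicComplete (maximalIdeal R) R := by
  -- source
  obtain ⟨W, _, _, hW, g, hg⟩ := exists_coefficientsEGA A
  obtain ⟨n, a, ha⟩ := Submodule.fg_iff_exists_fin_generating_family.mp (IsNoetherian.noetherian (maximalIdeal A))
  have ham : ∀ i, a i ∈ maximalIdeal A := fun i => ha ▸ Submodule.subset_span ⟨i, rfl⟩
  letI := g.toAlgebra
  obtain ⟨π, hπ⟩ := ArtKit.exists_evalAdic (R := W) (maximalIdeal A) a ham
  obtain ⟨q, l, hRreg, hq, hl, hRc, hRmax, hRdim, -⟩ := coeff_ps hW n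
  let R := MvPowerSeries (Fin n) W
  haveI : IsRegularLocalRing R := hRreg
  haveI : IsAdicComplete (maximalIdeal R) R := hRc
  have hπs : Function.Surjective π.toRingHom :=
    surjective_of_coefficients π.toRingHom g (fun c => π.commutes c) hg a ha hπ
  -- target
  obtain ⟨W', _, _, hW', g', hg'⟩ := exists_coefficientsEGA B
  obtain ⟨m, b, hb⟩ := Submodule.fg_iff_exists_fin_generating_family.mp (IsNoetherian.noetherian (maximalIdeal B))
  have hbm : ∀ i, b i ∈ maximalIdeal B := fun i => hb ▸ Submodule.subset_span ⟨i, rfl⟩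
  letI := g'.toAlgebra
  obtain ⟨τ₀, hτ₀⟩ := ArtKit.exists_evalAdic (R := W') (maximalIdeal B) b hbm
  obtain ⟨q', l', hTreg, hq', hl', hTc, hTmax, -, hTl, hTne, hTfib⟩ := coeff_ps hW' m
  let T := MvPowerSeries (Fin m) W'
  haveI : IsRegularLocalRing T := hTreg
  haveI : IsAdicComplete (maximalIdeal T) T := hTc
  have hτ₀s : Function.Surjective τ₀.toRingHom :=
    surjective_of_coefficients τ₀.toRingHom g' (fun c => τ₀.commutes c) hg' b hb hτ₀
  -- the cover
  let P := MvPowerSeries (Fin n) T
  haveI : IsRegularLocalRing P := Cohen.isRegularLocalRing_mvPowerSeries T n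
  haveI : IsAdicComplete (maximalIdeal P) P := ArtKit.isAdicComplete_mvPowerSeries
  letI : Algebra T B := τ₀.toRingHom.toAlgebra
  have hφa : ∀ i, φ (a i) ∈ maximalIdeal B := fun i => map_nonunit φ _ (ham i)
  obtain ⟨τ, hτ⟩ := ArtKit.exists_evalAdic (R := T) (maximalIdeal B) (fun i => φ (a i)) hφa
  have hτs : Function.Surjective τ.toRingHom := fun y => by
    obtain ⟨t, rfl⟩ := hτ₀s y
    exact ⟨algebraMap T P t, τ.commutes t⟩
  haveI : IsLocalHom τ.toRingHom := IsLocalHom.of_surjective _ hτs
  let e : (P ⧸ RingHom.ker τ.toRingHom) ≃+* B := RingHom.quotientKerEquivOfSurjective hτs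
  haveI : IsLocalRing (P ⧸ RingHom.ker τ.toRingHom) := e.symm.isLocalRing
  haveI : IsLocalHom g := isLocalHom_of_coefficients g hg
  haveI hloc2 : IsLocalHom (e.symm.toRingHom.comp (φ.comp g)) :=
    ⟨fun w hw => isUnit_of_map_unit g w (isUnit_of_map_unit φ (g w) (by simpa using hw.map e.toRingHom))⟩
  obtain ⟨v, hvloc, hv⟩ := S2456.result hW (RingHom.ker τ.toRingHom) (RingHom.ker_ne_top _)
    (e.symm.toRingHom.comp (φ.comp g))
  have hτv : ∀ c, τ (v c) = φ (g c) := fun c => by
    have h1 : e (Ideal.Quotient.mk _ (v c)) = e (e.symm (φ (g c))) := congrArg e (RingHom.congr_fun hv c)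
    rwa [RingEquiv.apply_symm_apply] at h1
  letI : Algebra W P := v.toAlgebra
  have hXm : ∀ i, (X i : P) ∈ maximalIdeal P := fun i => by
    rw [ArtKit.mem_maximalIdeal_iff_constantCoeff, constantCoeff_X]
    exact zero_mem _
  obtain ⟨ρ, hρ⟩ := ArtKit.exists_evalAdic (R := W) (maximalIdeal P) (fun i => (X i : P)) hXm
  -- compatibility
  letI : Algebra W B := (φ.comp g).toAlgebra
  have hcomp : τ.toRingHom.comp ρ.toRingHom = φ.comp π.toRingHom := by
    let f₁ : R →ₐ[W] B := { τ.toRingHom.comp ρ.toRingHom with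
      commutes' := fun c => by
        show τ (ρ (algebraMap W R c)) = φ (g c)
        rw [ρ.commutes]
        exact hτv c }
    let f₂ : R →ₐ[W] B := { φ.comp π.toRingHom with
      commutes' := fun c => by
        show φ (π (algebraMap W R c)) = φ (g c)
        rw [π.commutes]
        rfl }
    have : f₁ = f₂ := ArtKit.algHom_ext_adic (maximalIdeal B)
      (fun i => show τ (ρ (X i)) = φ (π (X i)) by rw [hρ, hπ, hτ])
      (fun i => show τ (ρ (X i)) ∈ maximalIdeal B by rw [hρ, hτ]; exact hφa i)
    exact congrArg AlgHom.toRingHom this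
  have hρl : IsLocalHom ρ.toRingHom := ⟨fun x hx => by
    haveI : IsLocalHom π.toRingHom := IsLocalHom.of_surjective _ hπs
    have h1 : IsUnit (φ (π.toRingHom x)) := by
      have := RingHom.congr_fun hcomp x
      rw [RingHom.comp_apply, RingHom.comp_apply] at this
      rw [← this]
      exact hx.map τ.toRingHom
    exact isUnit_of_map_unit π.toRingHom x (isUnit_of_map_unit φ _ h1)⟩
  haveI := hρl
  -- the characteristics agree
  have hll : l = l' := by
    haveI := hq; haveI := hq'
    haveI : IsLocalHom π.toRingHom := IsLocalHom.of_surjective _ hπs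
    haveI : IsLocalHom τ₀.toRingHom := IsLocalHom.of_surjective _ hτ₀s
    obtain ⟨qA, hqA⟩ := CharP.exists (ResidueField A)
    obtain ⟨qB, hqB⟩ := CharP.exists (ResidueField B)
    haveI := hqA; haveI := hqB
    have h1 : q = qA := charP_eq_of_hom π.toRingHom
    have h2 : q' = qB := charP_eq_of_hom τ₀.toRingHom
    have h3 : qA = qB := charP_eq_of_hom φ
    rw [hl, hl', h1, h2, h3]
  -- flatness
  have hxsmap : (xs n W l).map ρ.toRingHom = xs n T l := by
    simp only [xs, List.map_append, List.map_ofFn, List.map_map]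
    congr 1
    · exact congrArg List.ofFn (funext fun i => hρ i)
    · exact List.map_congr_left fun c _ => map_natCast ρ.toRingHom c
  rw [← hll] at hTl hTne hTfib
  obtain ⟨hPreg, -⟩ := xs_regular n l hTl hTne
  letI : Algebra R P := ρ.toRingHom.toAlgebra
  haveI : IsLocalHom (algebraMap R P) := hρl
  obtain ⟨hRw, -⟩ : IsWeaklyRegular R (xs n W l) ∧ True := by
    refine ⟨CotT.isWeaklyRegular_of_dim _ (hRmax ▸ (maximalIdeal.isMaximal R).ne_top) ?_, trivial⟩
    rw [hRmax, ringKrullDim_eq_zero_of_isField ((Ideal.Quotient.maximal_ideal_iff_isField_quotient _).mp inferInstance),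
      add_zero, xs_length, hRdim]
  have hPw : IsWeaklyRegular P (xs n W l) := by
    rw [← isWeaklyRegular_map_algebraMap_iff P]
    show IsWeaklyRegular P ((xs n W l).map ρ.toRingHom)
    rw [hxsmap]
    exact hPreg
  have hflat : Module.Flat R P := SerreReg.flat_of_regular_rsop _ R (by rw [hRdim]) (xs n W l) (xs_length n W l)
    hRw hRmax P hPw
  have hfib : IsRegularLocalRing (P ⧸ (maximalIdeal R).map ρ.toRingHom) := by
    haveI := hTfib
    rw [← hRmax, Ideal.map_ofList, hxsmap]
    exact IsRegularLocalRing.of_ringEquiv (xsEquiv n T l).symm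
  exact ⟨R, inferInstance, inferInstance, P, inferInstance, inferInstance, ρ.toRingHom, hρl, π.toRingHom,
    τ.toRingHom, hflat, hfib, hπs, hτs, hcomp, inferInstance, inferInstance⟩

end Groth.Agent.TorCI
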