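import Groth.Agent.TorCI.Pair
import Groth.Agent.KoszulLib.SchNoeth
import Mathlib

/-!
Koszul-regular ideals along `D → B → C` and descent along flat local maps.
-/

set_option autoImplicit false
set_option linter.style.haveILetI false
set_option backward.isDefEq.respectTransparency false
universe u

namespace Groth.Agent.TorCI

open RingTheory.Sequence
open Groth.Agent

/-- complete intersection ideals descend along flat local maps -/
theorem regular_of_flat_local {R S : Type u} [CommRing R] [CommRing S] [Algebra R S] [IsNoetherianRing R]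
    [IsNoetherianRing S] [IsLocalRing R] [IsLocalRing S] [IsLocalHom (algebraMap R S)] [Module.Flat R S]
    (I : Ideal R) (hI : I ≠ ⊤)
    (h : ∃ gs : List S, Ideal.ofList gs = I.map (algebraMap R S) ∧ IsRegular S gs) :
    ∃ rs : List R, Ideal.ofList rs = I ∧ IsRegular R rs := by
  classical
  obtain ⟨gs, hgs, hgsreg⟩ := h
  let m := IsLocalRing.maximalIdeal R
  let IS := I.map (algebraMap R S)
  have hmS : m.map (algebraMap R S) ≤ IsLocalRing.maximalIdeal S :=
    (((IsLocalRing.local_hom_TFAE (algebraMap R S)).out 0 2).1 (‹IsLocalHom (algebraMap R S)›) :)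
  obtain ⟨r, F, hFI, hind⟩ := exists_minimal_generators I
  let G : Fin r → S := fun i => algebraMap R S (F i)
  have hG : Ideal.span (Set.range G) = IS := by
    show _ = I.map _
    rw [← hFI, Ideal.map_span, ← Set.range_comp]
    rfl
  have hGind : ∀ b : Fin r → S, ∑ i, b i * G i ∈ IsLocalRing.maximalIdeal S * IS →
      ∀ i, b i ∈ IsLocalRing.maximalIdeal S := by
    intro b hb i
    rw [← hG] at hb
    obtain ⟨c, hc, hcb⟩ : ∃ c : Fin r → S, (∀ i, c i ∈ IsLocalRing.maximalIdeal S) ∧ ∑ i, c i * G i = ∑ i, b i * G i := by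
      obtain ⟨c, hc, hsum⟩ := (Submodule.mem_ideal_smul_span_iff_exists_sum _ G _).1 hb
      exact ⟨c, hc, by rw [← hsum]; simp [Finsupp.sum_fintype]⟩
    have h0 : ∑ i, F i • (b i - c i) = 0 := by
      have e1 : ∀ i, F i • (b i - c i) = b i * G i - c i * G i := fun i => by
        rw [Algebra.smul_def]; show algebraMap R S (F i) * _ = _; simp only [G]; ring
      rw [Finset.sum_congr rfl (fun i _ => e1 i), Finset.sum_sub_distrib, hcb, sub_self]
    obtain ⟨k, a, y, hbc, ha⟩ :=
      Module.Flat.isTrivialRelation_of_sum_smul_eq_zero (R := R) (M := S) (f := F) (x := fun i => b i - c i) h0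
    have hai : ∀ i j, a i j ∈ m := fun i j => hind (fun i => a i j) (by
      rw [show ∑ i, a i j * F i = 0 by simpa [mul_comm] using ha j]
      exact zero_mem _) i
    have hbc' : b i - c i ∈ IsLocalRing.maximalIdeal S := by
      rw [show b i - c i = _ from hbc i]
      refine Ideal.sum_mem _ fun j _ => ?_
      rw [Algebra.smul_def]
      exact Ideal.mul_mem_right _ _ (hmS (Ideal.mem_map_of_mem _ (hai i j)))
    simpa using Ideal.add_mem _ hbc' (hc i)
  have hIStop : IS ≠ ⊤ :=
    ne_top_of_le_ne_top (IsLocalRing.maximalIdeal.isMaximal S).ne_top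
      ((Ideal.map_mono (IsLocalRing.le_maximalIdeal hI)).trans hmS)
  have hf : Ideal.span (Set.range gs.get) = IS := by
    show _ = I.map _
    rw [← hgs]
    show Ideal.span (Set.range gs.get) = Ideal.span {x | x ∈ gs}
    rw [Set.range_list_get]
  have hfa : Wiebe.Acyclic gs.get := KoszulLib.acyclic_of_isWeaklyRegular' (by
    rw [List.ofFn_get]; exact hgsreg.toIsWeaklyRegular)
  obtain ⟨e, h, hre, hh, -⟩ := KoszulLib.exists_exchange (KoszulLib.isH1Regular_of_acyclic hfa) (hf.symm ▸ hIStop) G
    (fun i => hf.symm ▸ hG.le (Ideal.subset_span ⟨i, rfl⟩)) (fun b hb => hGind b (hf ▸ hb)) ∅ (Set.empty_subset _)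
    (le_sup_of_le_left (hf.le.trans hG.ge))
  obtain rfl : e = 0 := by
    by_contra he
    exact hh ⟨0, Nat.pos_of_ne_zero he⟩
  have hGw : IsWeaklyRegular S (List.ofFn G) := isWeaklyRegular_of_acyclic
    (fun i => IsLocalRing.le_maximalIdeal hIStop (hG.le (Ideal.subset_span ⟨i, rfl⟩)))
    (KoszulLib.acyclic_of_length_le hfa (hf.trans hG.symm) (by simpa using hre.le))
  haveI : Module.FaithfullyFlat R S := Module.FaithfullyFlat.of_flat_of_isLocalHom
  have hFw : IsWeaklyRegular R (List.ofFn F) := by
    rw [← RegIdeal.wReg_iff]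
    intro i x hx
    have h1 := (RegIdeal.wReg_iff G).2 hGw i (algebraMap R S x) (by
      show algebraMap R S (F i) * algebraMap R S x ∈ _
      rw [← map_mul, show G '' Set.Iio i = algebraMap R S '' (F '' Set.Iio i) from (Set.image_image ..).symm,
        ← Ideal.map_span]
      exact Ideal.mem_map_of_mem _ hx)
    rw [show G '' Set.Iio i = algebraMap R S '' (F '' Set.Iio i) from (Set.image_image ..).symm, ← Ideal.map_span,
      ← Ideal.mem_comap, Ideal.comap_map_eq_self_of_faithfullyFlat] at h1
    exact h1
  have hofF : Ideal.ofList (List.ofFn F) = I := by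
    rw [← hFI]
    show Ideal.span {x | x ∈ List.ofFn F} = _
    congr 1
    ext x
    simp [List.mem_ofFn]
  refine ⟨List.ofFn F, hofF, (IsLocalRing.isRegular_iff_isWeaklyRegular_of_subset_maximalIdeal fun x hx => ?_).2 hFw⟩
  exact IsLocalRing.le_maximalIdeal hI (hofF.le (Ideal.subset_span hx))

/-- Koszul-regularity of an ideal descends along a flat map, pointwise -/
theorem kAt_of_flat {A B : Type u} [CommRing A] [CommRing B] [Algebra A B] [IsNoetherianRing A] [IsNoetherianRing B]
    [Module.Flat A B] (I : Ideal A) (Q : Ideal B) [Q.IsPrime]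
    (h : KoszulLib.KAt (I.map (algebraMap A B)) Q) : KoszulLib.KAt I (Q.comap (algebraMap A B)) := by
  let p := Q.comap (algebraMap A B)
  by_cases hle : I ≤ p
  swap; · exact KoszulLib.kAt_of_not_le hle
  letI := Localization.AtPrime.algebraOfLiesOver p Q
  haveI : IsNoetherianRing (Localization.AtPrime p) := IsLocalization.isNoetherianRing p.primeCompl _ inferInstance
  haveI : IsNoetherianRing (Localization.AtPrime Q) := IsLocalization.isNoetherianRing Q.primeCompl _ inferInstance
  haveI : Module.Flat A (Localization.AtPrime Q) :=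
    haveI := IsLocalization.flat (Localization.AtPrime Q) Q.primeCompl
    Module.Flat.trans A B _
  haveI : Module.Flat (Localization.AtPrime p) (Localization.AtPrime Q) :=
    (Module.flat_iff_of_isLocalization (Localization.AtPrime p) p.primeCompl (Localization.AtPrime Q)).mpr inferInstance
  obtain ⟨ts, hts, hreg⟩ := KoszulLib.regular_localization_of_kAt Q (Localization.AtPrime Q)
    (Ideal.map_le_iff_le_comap.2 hle) h
  obtain ⟨rs, hrs, hreg'⟩ := regular_of_flat_local (R := Localization.AtPrime p) (S := Localization.AtPrime Q)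
    (I.map (algebraMap A _))
    (ne_top_of_le_ne_top (IsLocalRing.maximalIdeal.isMaximal (Localization.AtPrime p)).ne_top
      (le_trans (Ideal.map_mono hle) Localization.AtPrime.map_eq_maximalIdeal.le))
    ⟨ts, by
      rw [hts, Ideal.map_map, Ideal.map_map, ← IsScalarTower.algebraMap_eq, ← IsScalarTower.algebraMap_eq], hreg⟩
  exact KoszulLib.kAt_of_regular_localization p (Localization.AtPrime p) hle rs hrs hreg'.toIsWeaklyRegular

theorem ker_localRingHom {A B : Type u} [CommRing A] [CommRing B] (f : A →+* B) (hf : Function.Surjective f)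
    (Q : Ideal B) [Q.IsPrime] :
    RingHom.ker (Localization.localRingHom (Q.comap f) Q f rfl) =
      (RingHom.ker f).map (algebraMap A (Localization.AtPrime (Q.comap f))) := by
  have hT : Submonoid.map f (Q.comap f).primeCompl = Q.primeCompl := by
    ext b
    constructor
    · rintro ⟨a, ha, rfl⟩
      exact ha
    · intro hb
      obtain ⟨a, rfl⟩ := hf b
      exact ⟨a, hb, rfl⟩
  exact IsLocalization.ker_map (S := Localization.AtPrime (Q.comap f)) (Localization.AtPrime Q) f hT

/-- the pair theorem for Koszul-regular ideals at a prime -/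
theorem kAt_pair {D B C : Type u} [CommRing D] [CommRing B] [CommRing C] [IsNoetherianRing D]
    (φ : D →+* B) (hφ : Function.Surjective φ) (ψ : B →+* C) (hψ : Function.Surjective ψ) (hT : PCMor.TD ψ)
    (q : Ideal C) [q.IsPrime] (h : KoszulLib.KAt (RingHom.ker (ψ.comp φ)) (q.comap (ψ.comp φ))) :
    KoszulLib.KAt (RingHom.ker φ) ((q.comap ψ).comap φ) ∧ KoszulLib.KAt (RingHom.ker ψ) (q.comap ψ) := by
  haveI : IsNoetherianRing B := isNoetherianRing_of_surjective D B φ hφ
  let PB := q.comap ψ
  let PD := PB.comap φ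
  let LD := Localization.AtPrime PD
  let LB := Localization.AtPrime PB
  let LC := Localization.AtPrime q
  haveI : IsNoetherianRing LD := IsLocalization.isNoetherianRing PD.primeCompl LD inferInstance
  let φ' : LD →+* LB := Localization.localRingHom PD PB φ rfl
  let ψ' : LB →+* LC := Localization.localRingHom PB q ψ rfl
  have hT' : PCMor.TD ψ' := by
    refine PCMor.TD.of_comp_localization (A := B) (B := LB) PB.primeCompl ?_
    have : ψ'.comp (algebraMap B LB) = (algebraMap C LC).comp ψ :=
      RingHom.ext fun b => Localization.localRingHom_to_map PB q ψ rfl b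
    rw [this]
    exact PCMor.TD.comp hT (PCMor.td_of_flat (RingHom.flat_algebraMap_iff.2 (IsLocalization.flat LC q.primeCompl)))
  have hcomp : ψ'.comp φ' = Localization.localRingHom PD q (ψ.comp φ) (Ideal.comap_comap φ ψ) :=
    (Localization.localRingHom_comp PD PB q φ rfl ψ rfl).symm
  have hkc : RingHom.ker (ψ'.comp φ') = (RingHom.ker (ψ.comp φ)).map (algebraMap D LD) := by
    rw [hcomp]
    exact ker_localRingHom (ψ.comp φ) (hψ.comp hφ) q
  have hle1 : RingHom.ker φ ≤ PD := fun x hx => by
    show φ x ∈ PB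
    rw [show φ x = 0 from hx]
    exact zero_mem _
  have hle2 : RingHom.ker ψ ≤ PB := fun x hx => by
    show ψ x ∈ q
    rw [show ψ x = 0 from hx]
    exact zero_mem _
  have hle3 : RingHom.ker (ψ.comp φ) ≤ PD := fun x hx => by
    show ψ (φ x) ∈ q
    rw [show ψ (φ x) = 0 from hx]
    exact zero_mem _
  obtain ⟨ts, hts, hreg⟩ := KoszulLib.regular_localization_of_kAt PD LD hle3 (by
    rw [← Ideal.comap_comap] at h; exact h)
  obtain ⟨⟨t1, ht1, hr1⟩, t2, ht2, hr2⟩ := regular_pair_of_td φ' (RingHom.surjective_localRingHom_of_surjective φ hφ PB)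
    ψ' (RingHom.surjective_localRingHom_of_surjective ψ hψ q) hT' ⟨ts, hts.trans hkc.symm, hreg⟩
  exact ⟨KoszulLib.kAt_of_regular_localization PD LD hle1 t1 (ht1.trans (ker_localRingHom φ hφ PB)) hr1.toIsWeaklyRegular,
    KoszulLib.kAt_of_regular_localization PB LB hle2 t2 (ht2.trans (ker_localRingHom ψ hψ q)) hr2.toIsWeaklyRegular⟩

end Groth.Agent.TorCI
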