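import Groth.Agent.TorCI.CIFlat
import Groth.Agent.TorCI.LciPair
import Groth.Agent.SerreReg.Descent

/-!
# Localization of complete intersections
-/

set_option autoImplicit false
set_option linter.style.haveILetI false
set_option backward.isDefEq.respectTransparency false
universe u

open IsLocalRing RingTheory.Sequence

namespace Groth.Agent.TorCI

/-- localizations of a complete intersection quotient of a regular local ring -/
theorem isCI_localization_of_cover {R A : Type u} [CommRing R] [IsRegularLocalRing R] [CommRing A] [IsLocalRing A]
    (π : R →+* A) (hπ : Function.Surjective π) (hA : Pi1.IsCompleteIntersection A) (q : Ideal A) [q.IsPrime] :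
    Pi1.IsCompleteIntersection (Localization.AtPrime q) := by
  obtain ⟨rs, hreg, hker⟩ := (isCI_iff_regular π hπ).1 hA
  haveI := SerreReg.isRegularRing_of_isRegularLocalRing R
  haveI : IsRegularLocalRing (Localization.AtPrime (q.comap π)) :=
    IsRegularRing.isRegularLocalRing_localization _
  let L := Localization.AtPrime (q.comap π)
  let φ := Localization.localRingHom (q.comap π) q π rfl
  have hφ : Function.Surjective φ := fun y => by
    obtain ⟨⟨a, s⟩, rfl⟩ := IsLocalization.mk'_surjective q.primeCompl y
    obtain ⟨a, rfl⟩ := hπ a
    obtain ⟨t, ht⟩ := hπ (s : A)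
    refine ⟨IsLocalization.mk' _ a (⟨t, show π t ∉ q from ht ▸ s.2⟩ : (q.comap π).primeCompl), ?_⟩
    rw [Localization.localRingHom_mk']
    congr 1
    exact Subtype.ext ht
  haveI : Module.Flat R L := IsLocalization.flat L (q.comap π).primeCompl
  refine (isCI_iff_regular φ hφ).2 ⟨rs.map (algebraMap R L), ?_, ?_⟩
  · refine (IsLocalRing.isRegular_iff_isWeaklyRegular_of_subset_maximalIdeal fun x hx => ?_).2
      hreg.toIsWeaklyRegular.of_flat
    obtain ⟨r, hr, rfl⟩ := List.mem_map.1 hx
    rw [← IsLocalization.AtPrime.map_eq_maximalIdeal (q.comap π) L]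
    refine Ideal.mem_map_of_mem _ ?_
    show π r ∈ q
    rw [show π r = 0 from hker.ge (Ideal.subset_span hr)]
    exact zero_mem _
  · rw [ker_localRingHom π hπ q, hker, Ideal.map_ofList]

/-- Localizations of complete intersections are complete intersections. -/
theorem isCI_localization {A : Type u} [CommRing A] [IsNoetherianRing A] [IsLocalRing A]
    (hA : Pi1.IsCompleteIntersection A) (p : Ideal A) [p.IsPrime] :
    Pi1.IsCompleteIntersection (Localization.AtPrime p) := by
  let A' := AdicCompletion (maximalIdeal A) A
  haveI : Module.FaithfullyFlat A A' := Module.FaithfullyFlat.of_flat_of_isLocalHom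
  obtain ⟨⟨q, hq'⟩, hq⟩ := PrimeSpectrum.comap_surjective_of_faithfullyFlat (B := A') ⟨p, inferInstance⟩
  haveI := hq'
  haveI : q.LiesOver p := ⟨(congrArg PrimeSpectrum.asIdeal hq).symm⟩
  obtain ⟨R, _, _, π, hπ⟩ := exists_regular_cover A'
  have hq'CI := isCI_localization_of_cover π hπ ((isCI_adicCompletion A).2 hA) q
  letI := Localization.AtPrime.algebraOfLiesOver p q
  haveI : IsLocalHom (algebraMap (Localization.AtPrime p) (Localization.AtPrime q)) := by
    rw [RingHom.algebraMap_toAlgebra]
    exact Localization.isLocalHom_localRingHom p q (algebraMap A A') Ideal.LiesOver.over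
  haveI : IsNoetherianRing (Localization.AtPrime p) := IsLocalization.isNoetherianRing p.primeCompl _ inferInstance
  haveI : IsNoetherianRing (Localization.AtPrime q) := IsLocalization.isNoetherianRing q.primeCompl _ inferInstance
  haveI : Module.Flat A (Localization.AtPrime q) :=
    haveI := IsLocalization.flat (Localization.AtPrime q) q.primeCompl
    Module.Flat.trans A A' _
  haveI : Module.Flat (Localization.AtPrime p) (Localization.AtPrime q) :=
    (Module.flat_iff_of_isLocalization (Localization.AtPrime p) p.primeCompl (Localization.AtPrime q)).mpr inferInstance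
  let J := (maximalIdeal (Localization.AtPrime p)).map (algebraMap _ (Localization.AtPrime q))
  haveI : Nontrivial (Localization.AtPrime q ⧸ J) :=
    Ideal.Quotient.nontrivial_iff.2 (ne_top_of_le_ne_top (maximalIdeal.isMaximal _).ne_top map_maximal_le)
  haveI : IsLocalRing (Localization.AtPrime q ⧸ J) :=
    .of_surjective' (Ideal.Quotient.mk J) Ideal.Quotient.mk_surjective
  exact (isCI_flat_iff.1 hq'CI).1

/-- Being a local complete intersection can be tested at maximal ideals. -/
theorem isCI_atPrime_of_atMaximal {A : Type u} [CommRing A] [IsNoetherianRing A] (p m : Ideal A) [p.IsPrime]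
    [m.IsPrime] (hle : p ≤ m) (h : Pi1.IsCompleteIntersection (Localization.AtPrime m)) :
    Pi1.IsCompleteIntersection (Localization.AtPrime p) := by
  let L := Localization.AtPrime m
  haveI : IsNoetherianRing L := IsLocalization.isNoetherianRing m.primeCompl _ inferInstance
  have hd : Disjoint (m.primeCompl : Set A) (p : Set A) := Set.disjoint_left.2 fun x hx hxp => hx (hle hxp)
  let P := p.map (algebraMap A L)
  haveI hP : P.IsPrime := IsLocalization.isPrime_of_isPrime_disjoint m.primeCompl L p inferInstance hd
  have hPc : P.comap (algebraMap A L) = p := IsLocalization.comap_map_of_isPrime_disjoint m.primeCompl L inferInstance hd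
  haveI : IsLocalization.AtPrime (Localization.AtPrime P) p := by
    have := IsLocalization.isLocalization_atPrime_localization_atPrime (M := m.primeCompl) P
    rwa [show IsLocalization.AtPrime (Localization.AtPrime P) p = IsLocalization.AtPrime (Localization.AtPrime P) (P.comap (algebraMap A L)) from by simp only [hPc]]
  haveI : IsNoetherianRing (Localization.AtPrime p) := IsLocalization.isNoetherianRing p.primeCompl _ inferInstance
  haveI : IsNoetherianRing (Localization.AtPrime P) := IsLocalization.isNoetherianRing P.primeCompl _ inferInstance
  exact isCI_of_ringEquiv (IsLocalization.algEquiv p.primeCompl (Localization.AtPrime P) (Localization.AtPrime p)).toRingEquiv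
    (isCI_localization h P)

end Groth.Agent.TorCI
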