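import Groth.Agent.TorCI.CIFlat

/-!
# Complete intersection homomorphisms of complete local rings
-/

set_option autoImplicit false
set_option linter.style.haveILetI false
set_option backward.isDefEq.respectTransparency false
universe u

open IsLocalRing RingTheory.Sequence TensorProduct CategoryTheory

namespace Groth.Agent.TorCI

/-- concatenation of regular sequences along a surjection -/
theorem exists_regular_comp {R T C : Type u} [CommRing R] [IsLocalRing R] [IsNoetherianRing R] [CommRing T] [CommRing C]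
    [Nontrivial C] (π : R →+* T) (hπ : Function.Surjective π) (ψ : T →+* C)
    (fs : List R) (hfs : IsRegular R fs) (hfk : RingHom.ker π = Ideal.ofList fs)
    (gs : List T) (hgs : IsWeaklyRegular T gs) (hgk : RingHom.ker ψ = Ideal.ofList gs) :
    ∃ ts : List R, IsRegular R ts ∧ RingHom.ker (ψ.comp π) = Ideal.ofList ts := by
  letI := π.toAlgebra
  choose σ hσ using hπ
  have hts : (gs.map σ).map (algebraMap R T) = gs := by
    simp [List.map_map, Function.comp_def, RingHom.algebraMap_toAlgebra, hσ]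
  have hker : RingHom.ker (ψ.comp π) = Ideal.ofList (fs ++ gs.map σ) := by
    have h0 : Ideal.ofList gs = (Ideal.ofList (gs.map σ)).map π := by
      rw [Ideal.map_ofList]
      exact congrArg Ideal.ofList hts.symm
    rw [← RingHom.comap_ker, hgk, Ideal.ofList_append, h0]
    rw [Ideal.comap_map_of_surjective _ (fun x => ⟨σ x, hσ x⟩), ← RingHom.ker_eq_comap_bot, hfk, sup_comm]
  refine ⟨fs ++ gs.map σ, ?_, hker⟩
  refine (IsLocalRing.isRegular_iff_isWeaklyRegular_of_subset_maximalIdeal fun t ht => ?_).2 ?_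
  · exact le_maximalIdeal (RingHom.ker_ne_top (ψ.comp π)) (hker.ge (Ideal.subset_span ht))
  · rw [isWeaklyRegular_append_iff]
    refine ⟨hfs.toIsWeaklyRegular, ?_⟩
    have h1 : IsWeaklyRegular T (gs.map σ) := by
      rw [← isWeaklyRegular_map_algebraMap_iff T, hts]
      exact hgs
    let e : (R ⧸ (Ideal.ofList fs • (⊤ : Submodule R R))) ≃ₗ[R] T :=
      (Submodule.quotEquivOfEq _ _ (show Ideal.ofList fs • (⊤ : Submodule R R) = LinearMap.ker (Algebra.linearMap R T) by
        rw [smul_eq_mul, Ideal.mul_top, ← hfk]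
        rfl)).trans
        ((Algebra.linearMap R T).quotKerEquivOfSurjective fun x => ⟨σ x, hσ x⟩)
    exact (e.isWeaklyRegular_congr _).2 h1

/-- A complete intersection modulo a regular sequence is a complete intersection. -/
theorem isCI_of_regular_quot {S B : Type u} [CommRing S] [CommRing B] [IsNoetherianRing S] [IsNoetherianRing B]
    [IsLocalRing S] [IsLocalRing B] (hS : Pi1.IsCompleteIntersection S) (g : S →+* B) (hg : Function.Surjective g)
    (gs : List S) (hgs : IsWeaklyRegular S gs) (hgk : RingHom.ker g = Ideal.ofList gs) :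
    Pi1.IsCompleteIntersection B := by
  let S' := AdicCompletion (maximalIdeal S) S
  obtain ⟨ψ, hψ, -, hψk⟩ := FlatDepth.exists_cpl_quotient g hg
  haveI : Module.Flat S S' := AdicCompletion.flat_of_isNoetherian _
  obtain ⟨R, _, _, π, hπ⟩ := exists_regular_cover S'
  obtain ⟨fs, hfs, hfk⟩ := (isCI_iff_regular π hπ).1 ((isCI_adicCompletion S).2 hS)
  obtain ⟨ts, hts, htk⟩ := exists_regular_comp π hπ ψ fs hfs hfk (gs.map (algebraMap S S')) hgs.of_flat
    (by rw [hψk, hgk, Ideal.map_ofList])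
  exact (isCI_adicCompletion B).1 ((isCI_iff_regular (ψ.comp π) (hψ.comp hπ)).2 ⟨ts, hts, htk⟩)

theorem isCI_of_regularLocal {A : Type u} [CommRing A] [IsRegularLocalRing A] : Pi1.IsCompleteIntersection A :=
  (isCI_iff_regular (RingHom.id A) Function.surjective_id).2 ⟨[], IsRegular.nil A A, by
    rw [(RingHom.injective_iff_ker_eq_bot (RingHom.id A)).1 Function.injective_id, Ideal.ofList_nil]⟩

/-- a quotient by a regular sequence has finite Tor dimension -/
theorem td_of_regular_quot {S B : Type u} [CommRing S] [CommRing B] [IsLocalRing S] [IsNoetherianRing S]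
    (g : S →+* B) (hg : Function.Surjective g) (gs : List S) (hgs : IsRegular S gs)
    (hgk : RingHom.ker g = Ideal.ofList gs) : PCMor.TD g := by
  letI := g.toAlgebra
  have hk : LCI.IsKoszulRegularSeq S gs :=
    KoszulLib.koszul_seq_of_regular (show RegImm.Kind.regular.Seq S gs from hgs)
  have h1 := S7070.isPerfectModule_of_koszul gs hk
  have hker : LinearMap.ker (Algebra.linearMap S B) = Ideal.ofList gs := hgk
  let e : (S ⧸ Ideal.ofList gs) ≃ₗ[S] B :=
    (Submodule.quotEquivOfEq _ _ hker.symm).trans ((Algebra.linearMap S B).quotKerEquivOfSurjective hg)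
  exact (PCMor.pf_of_surjective_pfHom (f := g) hg (PCMor.perfectModule_of_equiv e h1)).2

/-- one direction of Avramov's theorem for maps of complete rings -/
theorem isCI_and_finite_tor {A B S : Type u} [CommRing A] [CommRing B] [CommRing S] [IsNoetherianRing A]
    [IsNoetherianRing B] [IsNoetherianRing S] [IsLocalRing A] [IsLocalRing B] [IsLocalRing S] [Algebra A B]
    [IsLocalHom (algebraMap A B)] [Algebra A S] [Module.Flat A S]
    [IsRegularLocalRing (S ⧸ (maximalIdeal A).map (algebraMap A S))] (hA : Pi1.IsCompleteIntersection A)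
    (g : S →ₐ[A] B) (hg : Function.Surjective g) (gs : List S) (hgs : IsRegular S gs)
    (hgk : Ideal.ofList gs = RingHom.ker g) :
    Pi1.IsCompleteIntersection B ∧
      Set.Finite {p : ℕ | ¬Subsingleton (DRing.Tor A p B (ResidueField A))} := by
  haveI : IsLocalHom (algebraMap A S) := ⟨fun a ha => isUnit_of_map_unit (algebraMap A B) a (by
    rw [← g.commutes a]; exact ha.map g)⟩
  have hS : Pi1.IsCompleteIntersection S := isCI_flat_iff.2 ⟨hA, isCI_of_regularLocal⟩
  refine ⟨isCI_of_regular_quot hS g.toRingHom hg gs hgs.toIsWeaklyRegular hgk.symm, ?_⟩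
  have h := PCMor.TD.comp (PCMor.td_of_flat (f := algebraMap A S) (RingHom.flat_algebraMap_iff.2 inferInstance))
    (td_of_regular_quot g.toRingHom hg gs hgs hgk.symm)
  rw [show g.toRingHom.comp (algebraMap A S) = algebraMap A B from g.comp_algebraMap] at h
  obtain ⟨N, hN⟩ := h
  have : (algebraMap A B).toAlgebra = ‹Algebra A B› := Algebra.algebra_ext _ _ fun _ => rfl
  rw [this] at hN
  refine (Set.finite_Iic N).subset fun p hp => ?_
  by_contra hc
  exact hp (hN _ p (not_le.1 hc))

/-- transport of the vanishing of `Tor` to a presentation of the base -/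
theorem tor_residue_of_equiv {A₀ A B M : Type u} [CommRing A₀] [IsLocalRing A₀] [CommRing A] [IsLocalRing A]
    [Algebra A₀ A] [AddCommGroup B] [Module A₀ B] [Module A B] [IsScalarTower A₀ A B] [AddCommGroup M] [Module A₀ M]
    (hA : Function.Bijective (algebraMap A₀ A)) (eM : B ≃ₗ[A₀] M) (m' : Ideal A₀) (hm : m' = maximalIdeal A₀)
    (p : ℕ) (h : Subsingleton (DRing.Tor A (p + 1) B (ResidueField A))) :
    Subsingleton (DRing.Tor A₀ (p + 1) M (A₀ ⧸ m')) := by
  haveI : IsLocalHom (algebraMap A₀ A) := IsLocalHom.of_surjective _ hA.2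
  haveI : Module.Flat A₀ A := RingHom.flat_algebraMap_iff.1 (RingHom.Flat.of_bijective hA)
  let eT : (A ⊗[A₀] (A₀ ⧸ m')) ≃ₗ[A] ResidueField A :=
    ((Algebra.TensorProduct.quotIdealMapEquivTensorQuot A m').symm.toLinearEquiv).trans
      (Submodule.quotEquivOfEq _ _ (by rw [hm, SyntLib.map_maximalIdeal_of_surjective _ hA.2]))
  haveI : Subsingleton (DRing.Tor A (p + 1) B (A ⊗[A₀] (A₀ ⧸ m'))) :=
    (((CategoryTheory.Tor (ModuleCat.{u} A) (p + 1)).obj (ModuleCat.of A B)).mapIso
      eT.toModuleIso).toLinearEquiv.toEquiv.subsingleton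
  haveI := (tor_baseChange_iff (A := A₀) (B := A) B (A₀ ⧸ m') p).1 inferInstance
  exact (((CategoryTheory.Tor (ModuleCat.{u} A₀) (p + 1)).mapIso eM.symm.toModuleIso).app
    (ModuleCat.of A₀ (A₀ ⧸ m'))).toLinearEquiv.toEquiv.subsingleton

/-- the other direction of Avramov's theorem for maps of complete rings -/
theorem exists_ci_factorization {A B : Type u} [CommRing A] [CommRing B] [IsNoetherianRing A] [IsNoetherianRing B]
    [IsLocalRing A] [IsLocalRing B] [IsAdicComplete (maximalIdeal A) A] [IsAdicComplete (maximalIdeal B) B]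
    [Algebra A B] [IsLocalHom (algebraMap A B)] (hB : Pi1.IsCompleteIntersection B)
    (hfin : Set.Finite {p : ℕ | ¬Subsingleton (DRing.Tor A p B (ResidueField A))}) :
    Pi1.IsCompleteIntersection A ∧
      ∃ (S : Type u) (_ : CommRing S) (_ : IsNoetherianRing S) (_ : IsLocalRing S) (_ : Algebra A S)
        (_ : Module.Flat A S) (_ : IsRegularLocalRing (S ⧸ Ideal.map (algebraMap A S) (maximalIdeal A)))
        (g : S →ₐ[A] B), Function.Surjective g ∧
          ∃ rs : List S, Ideal.ofList rs = RingHom.ker g ∧ IsRegular S rs := by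
  obtain ⟨R, _, _, P, _, _, ρ, hρl, π, τ, hρf, hfib, hπ, hτ, hcomp, -⟩ := exists_good_cover (algebraMap A B)
  letI := ρ.toAlgebra
  haveI : IsLocalHom (algebraMap R P) := hρl
  haveI : Module.Flat R P := hρf
  haveI : IsRegularLocalRing (P ⧸ (maximalIdeal R).map (algebraMap R P)) := hfib
  let I := RingHom.ker π
  let J := RingHom.ker τ
  let IS := I.map (algebraMap R P)
  let mP := (maximalIdeal R).map (algebraMap R P)
  have hI : I ≠ ⊤ := RingHom.ker_ne_top π
  have hJ : J ≠ ⊤ := RingHom.ker_ne_top τ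
  have hIJ : IS ≤ J := Ideal.map_le_iff_le_comap.2 fun x hx => by
    show τ (algebraMap R P x) = 0
    rw [← RingHom.comp_apply, show algebraMap R P = ρ from rfl, hcomp, RingHom.comp_apply,
      show π x = 0 from hx, map_zero]
  let eA : (R ⧸ I) ≃+* A := RingHom.quotientKerEquivOfSurjective hπ
  let eB : (P ⧸ J) ≃+* B := RingHom.quotientKerEquivOfSurjective hτ
  haveI : Nontrivial (R ⧸ I) := Ideal.Quotient.nontrivial_iff.2 hI
  haveI : IsLocalRing (R ⧸ I) := .of_surjective' (Ideal.Quotient.mk I) Ideal.Quotient.mk_surjective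
  haveI : IsLocalHom (Ideal.Quotient.mk I) := IsLocalHom.of_surjective _ Ideal.Quotient.mk_surjective
  haveI : IsLocalHom π := IsLocalHom.of_surjective π hπ
  letI : Algebra (R ⧸ I) (P ⧸ J) :=
    (Ideal.quotientMap J (algebraMap R P) (Ideal.map_le_iff_le_comap.1 hIJ)).toAlgebra
  haveI : IsScalarTower R (R ⧸ I) (P ⧸ J) := IsScalarTower.of_algebraMap_eq fun _ => rfl
  letI : Algebra (R ⧸ I) A := eA.toRingHom.toAlgebra
  letI : Algebra (R ⧸ I) B := ((algebraMap A B).comp eA.toRingHom).toAlgebra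
  haveI : IsScalarTower (R ⧸ I) A B := IsScalarTower.of_algebraMap_eq fun _ => rfl
  let eM : B ≃ₗ[R ⧸ I] (P ⧸ J) := (AlgEquiv.ofRingEquiv (R := R ⧸ I) (f := eB) fun x => by
    obtain ⟨r, rfl⟩ := Ideal.Quotient.mk_surjective x
    show τ (algebraMap R P r) = algebraMap A B (π r)
    exact RingHom.congr_fun hcomp r).symm.toLinearEquiv
  obtain ⟨N, hN⟩ := hfin.bddAbove
  have hTor : ∀ p, N < p → Subsingleton (DRing.Tor (R ⧸ I) p (P ⧸ J)
      ((R ⧸ I) ⧸ (maximalIdeal R).map (Ideal.Quotient.mk I))) := by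
    intro p hp
    obtain ⟨q, rfl⟩ : ∃ q, p = q + 1 := ⟨p - 1, by omega⟩
    refine tor_residue_of_equiv (A := A) eA.bijective eM _
      (SyntLib.map_maximalIdeal_of_surjective _ Ideal.Quotient.mk_surjective) q ?_
    by_contra hc
    exact absurd (hN hc) (not_le.2 hp)
  obtain ⟨ts, htsreg, hts⟩ := (isCI_iff_regular τ hτ).1 hB
  obtain ⟨⟨rs, hrs, hrsreg⟩, rs', hrs', hrs'reg⟩ := split_of_tor I J hJ hIJ N hTor ⟨ts, hts.symm, htsreg⟩
  refine ⟨(isCI_iff_regular π hπ).2 ⟨rs, hrsreg, hrs.symm⟩, ?_⟩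
  haveI : Nontrivial (P ⧸ IS) := Ideal.Quotient.nontrivial_iff.2 (ne_top_of_le_ne_top hJ hIJ)
  haveI : IsLocalRing (P ⧸ IS) := .of_surjective' (Ideal.Quotient.mk IS) Ideal.Quotient.mk_surjective
  haveI : Module.Flat (R ⧸ I) (P ⧸ IS) := flat_quotient_map I
  let f : A →+* P ⧸ IS := (algebraMap (R ⧸ I) (P ⧸ IS)).comp eA.symm.toRingHom
  have hf : f.Flat := RingHom.Flat.comp (RingHom.Flat.of_bijective eA.symm.bijective)
    (RingHom.flat_algebraMap_iff.2 inferInstance)
  letI := f.toAlgebra
  have hfπ : f.comp π = (Ideal.Quotient.mk IS).comp (algebraMap R P) := RingHom.ext fun r => by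
    show algebraMap (R ⧸ I) (P ⧸ IS) (eA.symm (eA (Ideal.Quotient.mk I r))) = _
    rw [eA.symm_apply_apply]
    rfl
  have hmS : (maximalIdeal A).map (algebraMap A (P ⧸ IS)) = mP.map (Ideal.Quotient.mk IS) := by
    rw [← SyntLib.map_maximalIdeal_of_surjective π hπ, Ideal.map_map, show algebraMap A (P ⧸ IS) = f from rfl, hfπ,
      ← Ideal.map_map]
  have hISm : IS ≤ mP := Ideal.map_mono (le_maximalIdeal hI)
  let eF : ((P ⧸ IS) ⧸ (maximalIdeal A).map (algebraMap A (P ⧸ IS))) ≃+* P ⧸ mP :=
    (Ideal.quotEquivOfEq hmS).trans (DoubleQuot.quotQuotEquivQuotOfLE hISm)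
  let g : (P ⧸ IS) →ₐ[A] B :=
    { Ideal.Quotient.lift IS τ hIJ with
      commutes' := fun a => by
        obtain ⟨r, rfl⟩ := hπ a
        show Ideal.Quotient.lift IS τ hIJ (f (π r)) = _
        rw [← RingHom.comp_apply f π, hfπ]
        exact RingHom.congr_fun hcomp r }
  refine ⟨P ⧸ IS, inferInstance, inferInstance, inferInstance, inferInstance, hf,
    IsRegularLocalRing.of_ringEquiv eF.symm, g, fun b => ?_, rs', ?_, hrs'reg⟩
  · obtain ⟨x, rfl⟩ := hτ b
    exact ⟨Ideal.Quotient.mk IS x, rfl⟩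
  · rw [hrs']
    refine (Ideal.comap_injective_of_surjective _ Ideal.Quotient.mk_surjective ?_)
    show Ideal.comap _ _ = (RingHom.ker (Ideal.Quotient.lift IS τ hIJ)).comap _
    rw [RingHom.comap_ker, Ideal.comap_map_of_surjective _ Ideal.Quotient.mk_surjective, ← RingHom.ker_eq_comap_bot,
      Ideal.mk_ker, sup_eq_left.2 hIJ]
    rfl

end Groth.Agent.TorCI
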