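import Groth.Agent.TorCI.RegularQuot
import Groth.Agent.PCMor.Stalk
import Mathlib

/-!
Complete intersections along a pair of surjections `A → B → C`.
-/

set_option autoImplicit false
set_option linter.style.haveILetI false
set_option backward.isDefEq.respectTransparency false
universe u

namespace Groth.Agent.TorCI

open RingTheory.Sequence
open Groth.Agent

theorem isRegular_map_ringEquiv {R R' : Type u} [CommRing R] [CommRing R'] (e : R ≃+* R') {rs : List R}
    (h : IsRegular R rs) : IsRegular R' (rs.map e) :=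
  ((e.toAddEquiv).isRegular_congr (List.forall₂_map_right_iff.mpr <|
    List.forall₂_same.mpr fun r _ x => map_mul e r x)).1 h

theorem regular_pair_of_td {A B C : Type u} [CommRing A] [IsNoetherianRing A] [IsLocalRing A] [CommRing B]
    [CommRing C] [Nontrivial C] (φ : A →+* B) (hφ : Function.Surjective φ) (ψ : B →+* C)
    (hψ : Function.Surjective ψ) (hT : PCMor.TD ψ)
    (hJ : ∃ ts : List A, Ideal.ofList ts = RingHom.ker (ψ.comp φ) ∧ IsRegular A ts) :
    (∃ ts : List A, Ideal.ofList ts = RingHom.ker φ ∧ IsRegular A ts) ∧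
      ∃ ts : List B, Ideal.ofList ts = RingHom.ker ψ ∧ IsRegular B ts := by
  let I := RingHom.ker φ
  let J := RingHom.ker (ψ.comp φ)
  have hIJ : I ≤ J := fun x hx => by
    show ψ (φ x) = 0
    rw [show φ x = 0 from hx, map_zero]
  have hJt : J ≠ ⊤ := RingHom.ker_ne_top _
  let eB : (A ⧸ I) ≃+* B := RingHom.quotientKerEquivOfSurjective hφ
  let eC : (A ⧸ J) ≃+* C := RingHom.quotientKerEquivOfSurjective (f := ψ.comp φ) (hψ.comp hφ)
  have heB : ∀ a, eB (Ideal.Quotient.mk I a) = φ a := fun a => rfl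
  have heC : ∀ a, eC (Ideal.Quotient.mk J a) = ψ (φ a) := fun a => rfl
  letI : Algebra (A ⧸ I) (A ⧸ J) := (Ideal.Quotient.factor hIJ).toAlgebra
  haveI : IsScalarTower A (A ⧸ I) (A ⧸ J) := IsScalarTower.of_algebraMap_eq fun _ => rfl
  have h1 : (eC.symm.toRingHom.comp (ψ.comp eB.toRingHom)) = algebraMap (A ⧸ I) (A ⧸ J) := by
    refine RingHom.ext fun x => ?_
    obtain ⟨a, rfl⟩ := Ideal.Quotient.mk_surjective x
    refine eC.injective ?_
    show eC (eC.symm (ψ (eB (Ideal.Quotient.mk I a)))) = eC (Ideal.Quotient.mk J a)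
    rw [eC.apply_symm_apply, heB, heC]
  have h2 : PCMor.TD (algebraMap (A ⧸ I) (A ⧸ J)) := by
    rw [← h1]
    exact PCMor.TD.comp (PCMor.TD.comp (PCMor.td_of_flat (RingHom.Flat.of_bijective eB.bijective)) hT)
      (PCMor.td_of_flat (RingHom.Flat.of_bijective eC.symm.bijective))
  obtain ⟨N, hN⟩ := h2
  have : (algebraMap (A ⧸ I) (A ⧸ J)).toAlgebra = (Ideal.Quotient.factor hIJ).toAlgebra :=
    Algebra.algebra_ext _ _ fun _ => rfl
  rw [this] at hN
  obtain ⟨hI, rs', hrs', hreg'⟩ := exists_regular_of_tor I J hIJ hJt N (fun p hp => hN _ p hp) hJ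
  refine ⟨hI, rs'.map eB, ?_, isRegular_map_ringEquiv eB hreg'⟩
  rw [show rs'.map eB = rs'.map eB.toRingHom from rfl, ← Ideal.map_ofList, hrs', Ideal.map_map]
  show (RingHom.ker (ψ.comp φ)).map φ = _
  rw [← RingHom.comap_ker, Ideal.map_comap_of_surjective φ hφ]

end Groth.Agent.TorCI
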