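import Groth.Agent.TorCI.CIMap
import Groth.Agent.TorCI.Pair
import Groth.Agent.KoszulLib.NearPoint

/-!
# Regular sequences and regular local rings
-/

set_option autoImplicit false
set_option linter.style.haveILetI false
set_option backward.isDefEq.respectTransparency false
universe u

open IsLocalRing RingTheory.Sequence CategoryTheory AlgebraicGeometry

namespace Groth.Agent.TorCI

/-- a ring with a regular quotient by a regular sequence is regular -/
theorem isRegularLocalRing_of_regular_quot {A B : Type u} [CommRing A] [IsNoetherianRing A] [IsLocalRing A]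
    [CommRing B] [IsRegularLocalRing B] (π : A →+* B) (hπ : Function.Surjective π) (rs : List A)
    (hreg : IsRegular A rs) (hker : RingHom.ker π = Ideal.ofList rs) : IsRegularLocalRing A := by
  classical
  refine IsRegularLocalRing.of_spanFinrank_maximalIdeal_le _ ?_
  obtain ⟨s, hs, hspan⟩ := Submodule.FG.exists_span_set_encard_eq_spanFinrank
    (IsNoetherian.noetherian (maximalIdeal B))
  have hfin : s.Finite := Set.finite_of_encard_eq_coe hs
  choose σ hσ using hπ
  have hm : maximalIdeal A = Ideal.span ({r | r ∈ rs} ∪ σ '' s) := by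
    haveI : IsLocalHom π := IsLocalHom.of_surjective π fun b => ⟨σ b, hσ b⟩
    have h1 : (Ideal.span (σ '' s)).map π = maximalIdeal B := by
      rw [Ideal.map_span, ← Set.image_comp, show π ∘ σ = id from funext hσ, Set.image_id]
      exact hspan
    rw [Ideal.span_union, show Ideal.span {r | r ∈ rs} = RingHom.ker π from hker.symm, sup_comm,
      RingHom.ker_eq_comap_bot, ← Ideal.comap_map_of_surjective π (fun b => ⟨σ b, hσ b⟩), h1]
    exact ((((IsLocalRing.local_hom_TFAE π).out 0 4).1 (inferInstance : IsLocalHom π)) : (maximalIdeal B).comap π = maximalIdeal A).symm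
  have h2 : (maximalIdeal A).spanFinrank ≤ rs.length + (maximalIdeal B).spanFinrank := by
    rw [hm]
    refine (Submodule.spanFinrank_span_le_ncard_of_finite (rs.finite_toSet.union (hfin.image σ))).trans ?_
    refine (Set.ncard_union_le _ _).trans (add_le_add ?_ ((Set.ncard_image_le hfin).trans (le_of_eq ?_)))
    · rw [show {r | r ∈ rs} = (rs.toFinset : Set A) from (List.coe_toFinset rs).symm, Set.ncard_coe_finset]
      exact List.toFinset_card_le rs
    · rw [Set.ncard, hs, ENat.toNat_coe]
  have h3 := ringKrullDim_add_length_eq_ringKrullDim_of_isRegular rs hreg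
  rw [ringKrullDim_eq_of_ringEquiv ((Ideal.quotEquivOfEq hker.symm).trans
    (RingHom.quotientKerEquivOfSurjective fun b => ⟨σ b, hσ b⟩)),
    ← IsRegularLocalRing.spanFinrank_maximalIdeal (R := B)] at h3
  rw [← h3, ← Nat.cast_add, Nat.cast_le, add_comm]
  exact h2

theorem regular_ker_comp_iff_of_regular {A B C : Type u} [CommRing A] [CommRing B] [CommRing C]
    [IsRegularLocalRing A] [IsRegularLocalRing B] [IsLocalRing C] (π : A →+* B) (hπ : Function.Surjective π)
    (ψ : B →+* C) (hψ : Function.Surjective ψ) :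
    (∃ ts : List A, Ideal.ofList ts = RingHom.ker (ψ.comp π) ∧ IsRegular A ts) ↔
      ∃ ts : List B, Ideal.ofList ts = RingHom.ker ψ ∧ IsRegular B ts :=
  ⟨fun ⟨ts, h1, h2⟩ =>
    let ⟨us, h3, h4⟩ := (isCI_iff_regular ψ hψ).1 ((isCI_iff_regular (ψ.comp π) (hψ.comp hπ)).2 ⟨ts, h2, h1.symm⟩)
    ⟨us, h4.symm, h3⟩,
  fun ⟨ts, h1, h2⟩ =>
    let ⟨us, h3, h4⟩ := (isCI_iff_regular (ψ.comp π) (hψ.comp hπ)).1 ((isCI_iff_regular ψ hψ).2 ⟨ts, h2, h1.symm⟩)
    ⟨us, h4.symm, h3⟩⟩

/-- a regular quotient: the kernel is regular iff the ring is regular -/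
theorem regular_ker_iff_isRegularLocalRing {A B : Type u} [CommRing A] [IsNoetherianRing A] [IsLocalRing A]
    [CommRing B] [IsRegularLocalRing B] (π : A →+* B) (hπ : Function.Surjective π) :
    (∃ ts : List A, Ideal.ofList ts = RingHom.ker π ∧ IsRegular A ts) ↔ IsRegularLocalRing A := by
  refine ⟨fun ⟨ts, h1, h2⟩ => isRegularLocalRing_of_regular_quot π hπ ts h2 h1.symm, fun h => ?_⟩
  obtain ⟨us, h3, h4⟩ := (isCI_iff_regular π hπ).1 isCI_of_regularLocal
  exact ⟨us, h4.symm, h3⟩

/-- two out of three for regular quotients -/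
theorem regular_ker_pair_iff {A B C : Type u} [CommRing A] [CommRing B] [CommRing C] [IsNoetherianRing A]
    [IsLocalRing A] [IsLocalRing B] [Nontrivial C] (π : A →+* B) (hπ : Function.Surjective π) (ψ : B →+* C)
    (hψ : Function.Surjective ψ) (hψr : ∃ ts : List B, Ideal.ofList ts = RingHom.ker ψ ∧ IsRegular B ts) :
    (∃ ts : List A, Ideal.ofList ts = RingHom.ker π ∧ IsRegular A ts) ↔
      ∃ ts : List A, Ideal.ofList ts = RingHom.ker (ψ.comp π) ∧ IsRegular A ts := by
  haveI : IsNoetherianRing B := isNoetherianRing_of_surjective A B π hπ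
  obtain ⟨gs, hgs, hgr⟩ := hψr
  refine ⟨fun ⟨fs, hfs, hfr⟩ => ?_, fun h => ?_⟩
  · obtain ⟨ts, h1, h2⟩ := exists_regular_comp π hπ ψ fs hfr hfs.symm gs hgr.toIsWeaklyRegular hgs.symm
    exact ⟨ts, h2.symm, h1⟩
  · exact (regular_pair_of_td π hπ ψ hψ (td_of_regular_quot ψ hψ gs hgr hgs.symm) h).1

/-- regular near `z` for a composite -/
theorem stalkReg_comp_iff {X Y Z : Scheme.{u}} (f : Y ⟶ X) (g : Z ⟶ Y) (z : Z) :
    KoszulLib.StalkReg (g ≫ f) z ↔
      ∃ ts : List (X.presheaf.stalk (f (g z))),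
        Ideal.ofList ts = RingHom.ker ((g.stalkMap z).hom.comp (f.stalkMap (g z)).hom) ∧
          IsRegular (X.presheaf.stalk (f (g z))) ts := by
  unfold KoszulLib.StalkReg
  rw [Scheme.Hom.stalkMap_comp, CommRingCat.hom_comp]
  rfl

end Groth.Agent.TorCI
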