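import Groth.Agent.TorCI.TorLemmas
import Groth.Agent.TorCI.RegularQuot
import Groth.Agent.SerreReg.MiracleFinite
import Groth.Agent.PCMor.Stalk
import Groth.Agent.S7070
import Mathlib

/-!
Complete intersections in a flat local extension with regular closed fibre.
-/

set_option autoImplicit false
set_option linter.style.haveILetI false
set_option backward.isDefEq.respectTransparency false
universe u

namespace Groth.Agent.TorCI

open RingTheory.Sequence CategoryTheory
open Groth.Agent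
open scoped TensorProduct Pointwise

/-- devissage along a regular sequence -/
theorem tor_of_isWeaklyRegular {A : Type u} [CommRing A] (X : Type u) [AddCommGroup X] [Module A X] :
    ∀ (rs : List A) (M : Type u) [AddCommGroup M] [Module A M] (N : ℕ), IsWeaklyRegular M rs →
      (∀ p, N < p → Subsingleton (DRing.Tor A p X M)) →
      ∀ p, N + rs.length < p → Subsingleton (DRing.Tor A p X (M ⧸ (Ideal.ofList rs • ⊤ : Submodule A M))) := by
  intro rs
  induction rs with
  | nil =>
    intro M _ _ N _ h p hp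
    haveI := h p (by simpa using hp)
    let e : (M ⧸ (Ideal.ofList ([] : List A) • ⊤ : Submodule A M)) ≃ₗ[A] M :=
      Submodule.quotEquivOfEqBot _ (by simp)
    exact (((CategoryTheory.Tor (ModuleCat.{u} A) p).obj (ModuleCat.of A X)).mapIso e.toModuleIso).toLinearEquiv.toEquiv.subsingleton
  | cons r rs ih =>
    intro M _ _ N hreg h p hp
    rw [isWeaklyRegular_cons_iff] at hreg
    have h1 := tor_of_shortExact X (LinearMap.lsmul A M r) (r • (⊤ : Submodule A M)).mkQ hreg.1
      (LinearMap.exact_iff.2 (by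
        rw [Submodule.ker_mkQ]
        ext y
        simp [Submodule.mem_smul_pointwise_iff_exists]))
      (Submodule.mkQ_surjective _) N h h
    haveI := ih (QuotSMulTop r M) (N + 1) hreg.2 h1 p (by simp at hp ⊢; lia)
    exact (((CategoryTheory.Tor (ModuleCat.{u} A) p).obj (ModuleCat.of A X)).mapIso
      (Submodule.quotOfListConsSMulTopEquivQuotSMulTopInner M r rs).toModuleIso).toLinearEquiv.toEquiv.subsingleton

variable {R S : Type u} [CommRing R] [CommRing S] [Algebra R S]

/-- the base changed quotient is flat -/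
theorem flat_quotient_map [Module.Flat R S] (I : Ideal R) :
    Module.Flat (R ⧸ I) (S ⧸ I.map (algebraMap R S)) := by
  let e : (R ⧸ I) ⊗[R] S ≃ₗ[R] (S ⧸ I.map (algebraMap R S)) :=
    (TensorProduct.quotTensorEquivQuotSMul S I).trans
      ((Submodule.quotEquivOfEq _ _ (Ideal.smul_top_eq_map I)).trans
        ((Submodule.Quotient.restrictScalarsEquiv R (I.map (algebraMap R S))).restrictScalars R))
  exact Module.Flat.of_linearEquiv (LinearEquiv.extendScalarsOfSurjective
    (show Function.Surjective (algebraMap R (R ⧸ I)) from Ideal.Quotient.mk_surjective) e).symm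

theorem quotient_algebraMap_eq (I : Ideal R) (J : Ideal S) (hIJ : I.map (algebraMap R S) ≤ J)
    [Algebra (R ⧸ I) (S ⧸ J)] [IsScalarTower R (R ⧸ I) (S ⧸ J)] (x : R ⧸ I) :
    algebraMap (R ⧸ I) (S ⧸ J) x =
      Ideal.Quotient.factor hIJ (algebraMap (R ⧸ I) (S ⧸ I.map (algebraMap R S)) x) := by
  obtain ⟨r, rfl⟩ := Ideal.Quotient.mk_surjective x
  rw [show (Ideal.Quotient.mk I r) = algebraMap R (R ⧸ I) r from rfl, ← IsScalarTower.algebraMap_apply,
    ← IsScalarTower.algebraMap_apply]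
  rfl

variable [IsNoetherianRing R] [IsNoetherianRing S] [IsLocalRing R] [IsLocalRing S]
  [IsLocalHom (algebraMap R S)] [Module.Flat R S]

theorem map_maximal_le : (IsLocalRing.maximalIdeal R).map (algebraMap R S) ≤ IsLocalRing.maximalIdeal S :=
  (((IsLocalRing.local_hom_TFAE (algebraMap R S)).out 0 2).1 (‹IsLocalHom (algebraMap R S)›) :)

/-- from the split presentation to the whole -/
theorem regular_and_finiteTorDim (I : Ideal R) (J : Ideal S) (hJ : J ≠ ⊤) (hIJ : I.map (algebraMap R S) ≤ J)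
    [Algebra (R ⧸ I) (S ⧸ J)] [IsScalarTower R (R ⧸ I) (S ⧸ J)] (rs : List R) (hrs : Ideal.ofList rs = I)
    (hreg : IsRegular R rs) (rs' : List (S ⧸ I.map (algebraMap R S)))
    (hrs' : Ideal.ofList rs' = J.map (Ideal.Quotient.mk (I.map (algebraMap R S))))
    (hreg' : IsRegular (S ⧸ I.map (algebraMap R S)) rs') :
    (∃ ts : List S, Ideal.ofList ts = J ∧ IsRegular S ts) ∧ DRing.HasFiniteTorDim (R ⧸ I) (S ⧸ J) := by
  constructor
  · have hw : IsWeaklyRegular S (rs.map (algebraMap R S)) :=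
      hreg.toIsWeaklyRegular.of_flat
    have hsurj : ∀ x : S ⧸ I.map (algebraMap R S), ∃ y, Ideal.Quotient.mk _ y = x := Ideal.Quotient.mk_surjective
    choose σ hσ using hsurj
    let ts := rs'.map σ
    have hts : ts.map (Ideal.Quotient.mk (I.map (algebraMap R S))) = rs' := by
      simp [ts, List.map_map, Function.comp_def, hσ]
    have hIS : Ideal.ofList (rs.map (algebraMap R S)) = I.map (algebraMap R S) := by
      rw [← Ideal.map_ofList, hrs]
    refine ⟨rs.map (algebraMap R S) ++ ts, ?_, ?_⟩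
    · rw [Ideal.ofList_append, hIS]
      have h1 : (Ideal.ofList ts).map (Ideal.Quotient.mk (I.map (algebraMap R S))) =
          J.map (Ideal.Quotient.mk (I.map (algebraMap R S))) := by rw [Ideal.map_ofList, hts, hrs']
      have h2 := congrArg (Ideal.comap (Ideal.Quotient.mk (I.map (algebraMap R S)))) h1
      rw [Ideal.comap_map_of_surjective _ Ideal.Quotient.mk_surjective,
        Ideal.comap_map_of_surjective _ Ideal.Quotient.mk_surjective, ← RingHom.ker_eq_comap_bot, Ideal.mk_ker,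
        sup_eq_left.2 hIJ] at h2
      rw [sup_comm]
      exact h2
    · have hmem : ∀ t ∈ rs.map (algebraMap R S) ++ ts, t ∈ IsLocalRing.maximalIdeal S := by
        intro t ht
        refine IsLocalRing.le_maximalIdeal hJ ?_
        rcases List.mem_append.1 ht with ht | ht
        · exact hIJ (hIS.le (Ideal.subset_span ht))
        · have h3 : Ideal.Quotient.mk (I.map (algebraMap R S)) t ∈ J.map (Ideal.Quotient.mk _) :=
            hrs'.le (Ideal.subset_span (by rw [← hts]; exact List.mem_map_of_mem ht))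
          rw [← Ideal.mem_comap, Ideal.comap_map_of_surjective _ Ideal.Quotient.mk_surjective,
            ← RingHom.ker_eq_comap_bot, Ideal.mk_ker, sup_eq_left.2 hIJ] at h3
          exact h3
      refine (IsLocalRing.isRegular_iff_isWeaklyRegular_of_subset_maximalIdeal hmem).2 ?_
      rw [isWeaklyRegular_append_iff]
      refine ⟨hw, ?_⟩
      have h4 : IsWeaklyRegular (S ⧸ I.map (algebraMap R S)) ts := by
        rw [← isWeaklyRegular_map_algebraMap_iff (S ⧸ I.map (algebraMap R S)), Ideal.Quotient.algebraMap_eq, hts]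
        exact hreg'.toIsWeaklyRegular
      exact ((Submodule.quotEquivOfEq _ _ (by rw [hIS, smul_eq_mul, Ideal.mul_top])).isWeaklyRegular_congr _).2 h4
  · let f := algebraMap (R ⧸ I) (S ⧸ I.map (algebraMap R S))
    have hf : PCMor.TD f := PCMor.td_of_flat (RingHom.flat_algebraMap_iff.2 (flat_quotient_map I))
    let g := Ideal.Quotient.factor hIJ
    have hg : PCMor.TD g := by
      letI := g.toAlgebra
      let S' := S ⧸ I.map (algebraMap R S)
      have hk : LCI.IsKoszulRegularSeq S' rs' :=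
        KoszulLib.koszul_seq_of_regular (show RegImm.Kind.regular.Seq S' rs' from hreg')
      have h1 := S7070.isPerfectModule_of_koszul rs' hk
      have hker : LinearMap.ker (Algebra.linearMap S' (S ⧸ J)) = Ideal.ofList rs' := by
        rw [hrs']
        exact (Ideal.Quotient.factor_ker hIJ)
      let e : (S' ⧸ Ideal.ofList rs') ≃ₗ[S'] (S ⧸ J) :=
        (Submodule.quotEquivOfEq _ _ hker.symm).trans
          ((Algebra.linearMap S' (S ⧸ J)).quotKerEquivOfSurjective (Ideal.Quotient.factor_surjective hIJ))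
      exact (PCMor.pf_of_surjective_pfHom (f := g) (Ideal.Quotient.factor_surjective hIJ)
        (PCMor.perfectModule_of_equiv e h1)).2
    have h := PCMor.TD.comp hf hg
    have hgf : g.comp f = algebraMap (R ⧸ I) (S ⧸ J) :=
      RingHom.ext fun x => (quotient_algebraMap_eq I J hIJ x).symm
    rw [hgf] at h
    obtain ⟨d, hd⟩ := h
    refine ⟨d, ?_⟩
    have : (algebraMap (R ⧸ I) (S ⧸ J)).toAlgebra = ‹Algebra (R ⧸ I) (S ⧸ J)› := Algebra.algebra_ext _ _ fun _ => rfl
    rw [this] at hd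
    exact hd

/-- from eventual vanishing of `Tor` with the residue field of the base -/
theorem split_of_tor [IsRegularLocalRing (S ⧸ (IsLocalRing.maximalIdeal R).map (algebraMap R S))]
    (I : Ideal R) (J : Ideal S) (hJ : J ≠ ⊤) (hIJ : I.map (algebraMap R S) ≤ J)
    [Algebra (R ⧸ I) (S ⧸ J)] [IsScalarTower R (R ⧸ I) (S ⧸ J)] (N : ℕ)
    (hTor : ∀ p, N < p → Subsingleton (DRing.Tor (R ⧸ I) p (S ⧸ J)
      ((R ⧸ I) ⧸ (IsLocalRing.maximalIdeal R).map (Ideal.Quotient.mk I))))
    (hJreg : ∃ ts : List S, Ideal.ofList ts = J ∧ IsRegular S ts) :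
    (∃ rs : List R, Ideal.ofList rs = I ∧ IsRegular R rs) ∧
      ∃ rs' : List (S ⧸ I.map (algebraMap R S)),
        Ideal.ofList rs' = J.map (Ideal.Quotient.mk (I.map (algebraMap R S))) ∧
          IsRegular (S ⧸ I.map (algebraMap R S)) rs' := by
  classical
  let m := IsLocalRing.maximalIdeal R
  let mS := m.map (algebraMap R S)
  let IS := I.map (algebraMap R S)
  have hISJ : IS ≤ J := hIJ
  have hISm : IS ≤ mS := Ideal.map_mono (IsLocalRing.le_maximalIdeal fun h => hJ (by
    rw [eq_top_iff]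
    refine le_trans ?_ hIJ
    rw [h, Ideal.map_top]))
  have hmS : mS ≤ IsLocalRing.maximalIdeal S := map_maximal_le
  letI : Algebra (S ⧸ IS) (S ⧸ J) := (Ideal.Quotient.factor hISJ).toAlgebra
  haveI : IsScalarTower S (S ⧸ IS) (S ⧸ J) := IsScalarTower.of_algebraMap_eq fun _ => rfl
  haveI : IsScalarTower (R ⧸ I) (S ⧸ IS) (S ⧸ J) :=
    IsScalarTower.of_algebraMap_eq fun x => quotient_algebraMap_eq I J hIJ x
  haveI : Module.Flat (R ⧸ I) (S ⧸ IS) := flat_quotient_map I
  letI : Algebra (S ⧸ IS) (S ⧸ mS) := (Ideal.Quotient.factor hISm).toAlgebra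
  haveI : IsScalarTower S (S ⧸ IS) (S ⧸ mS) := IsScalarTower.of_algebraMap_eq fun _ => rfl
  -- the fibre
  let m' := m.map (Ideal.Quotient.mk I)
  have hkerfac : m'.map (algebraMap (R ⧸ I) (S ⧸ IS)) = LinearMap.ker (Algebra.linearMap (S ⧸ IS) (S ⧸ mS)) := by
    show _ = RingHom.ker (Ideal.Quotient.factor hISm)
    rw [Ideal.Quotient.factor_ker hISm, Ideal.map_map, Ideal.map_map]
    rfl
  let e0 : ((S ⧸ IS) ⊗[R ⧸ I] ((R ⧸ I) ⧸ m')) ≃ₗ[S ⧸ IS] (S ⧸ mS) :=
    ((Algebra.TensorProduct.quotIdealMapEquivTensorQuot (S ⧸ IS) m').symm.toLinearEquiv).trans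
      ((Submodule.quotEquivOfEq _ _ hkerfac).trans
        ((Algebra.linearMap (S ⧸ IS) (S ⧸ mS)).quotKerEquivOfSurjective (Ideal.Quotient.factor_surjective hISm)))
  have hTor1 : ∀ p, N < p → Subsingleton (DRing.Tor (S ⧸ IS) p (S ⧸ J) (S ⧸ mS)) := by
    intro p hp
    obtain ⟨q, rfl⟩ : ∃ q, p = q + 1 := ⟨p - 1, by lia⟩
    haveI := (tor_baseChange_iff (B := S ⧸ IS) (S ⧸ J) ((R ⧸ I) ⧸ m') q).2 (hTor (q + 1) hp)
    exact (((CategoryTheory.Tor (ModuleCat.{u} (S ⧸ IS)) (q + 1)).obj (ModuleCat.of (S ⧸ IS) (S ⧸ J))).mapIso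
      e0.symm.toModuleIso).toLinearEquiv.toEquiv.subsingleton
  obtain ⟨d, hd⟩ : ∃ d : ℕ, ringKrullDim (S ⧸ mS) = d :=
    ⟨_, IsRegularLocalRing.spanFinrank_maximalIdeal.symm⟩
  obtain ⟨ys, -, hys, hysm⟩ := SerreReg.exists_regular_rsop d (S ⧸ mS) hd
  have hsurj : ∀ x : S ⧸ mS, ∃ y : S ⧸ IS, algebraMap (S ⧸ IS) (S ⧸ mS) y = x :=
    Ideal.Quotient.factor_surjective hISm
  choose σ hσ using hsurj
  let zs := ys.map σ
  have hzs : zs.map (algebraMap (S ⧸ IS) (S ⧸ mS)) = ys := by simp [zs, List.map_map, Function.comp_def, hσ]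
  have hzreg : IsWeaklyRegular (S ⧸ mS) zs := by
    rw [← isWeaklyRegular_map_algebraMap_iff (S ⧸ mS), hzs]
    exact hys
  have hTor2 := tor_of_isWeaklyRegular (S ⧸ J) zs (S ⧸ mS) N hzreg hTor1
  let Q : Submodule (S ⧸ IS) (S ⧸ mS) := Ideal.ofList zs • ⊤
  let φ : (S ⧸ IS) →ₗ[S ⧸ IS] (S ⧸ mS) ⧸ Q := Q.mkQ.comp (Algebra.linearMap (S ⧸ IS) (S ⧸ mS))
  have hφs : Function.Surjective φ :=
    Q.mkQ_surjective.comp (Ideal.Quotient.factor_surjective hISm)
  have hφk : LinearMap.ker φ = (IsLocalRing.maximalIdeal S).map (Ideal.Quotient.mk IS) := by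
    ext x
    obtain ⟨s, rfl⟩ := Ideal.Quotient.mk_surjective x
    rw [LinearMap.mem_ker]
    show (Submodule.Quotient.mk (Ideal.Quotient.mk mS s) : (S ⧸ mS) ⧸ Q) = 0 ↔ _
    rw [Submodule.Quotient.mk_eq_zero]
    show Ideal.Quotient.mk mS s ∈ (Ideal.ofList zs • ⊤ : Submodule (S ⧸ IS) (S ⧸ mS)) ↔ _
    rw [Ideal.smul_top_eq_map, Submodule.restrictScalars_mem, Ideal.map_ofList, hzs, hysm,
      ← Ideal.mem_comap (f := Ideal.Quotient.mk mS), ← Ideal.mem_comap (f := Ideal.Quotient.mk IS),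
      Ideal.comap_map_of_surjective (Ideal.Quotient.mk IS) Ideal.Quotient.mk_surjective, ← RingHom.ker_eq_comap_bot,
      Ideal.mk_ker, sup_eq_left.2 (hISm.trans hmS)]
    haveI := ((IsLocalRing.local_hom_TFAE (Ideal.Quotient.mk mS)).out 0 4).1
      (IsLocalHom.of_surjective _ Ideal.Quotient.mk_surjective)
    rw [this]
  let e1 : ((S ⧸ IS) ⧸ (IsLocalRing.maximalIdeal S).map (Ideal.Quotient.mk IS)) ≃ₗ[S ⧸ IS] (S ⧸ mS) ⧸ Q :=
    (Submodule.quotEquivOfEq _ _ hφk.symm).trans (φ.quotKerEquivOfSurjective hφs)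
  have hTor3 : ∀ p, N + zs.length < p → Subsingleton (DRing.Tor (S ⧸ IS) p (S ⧸ J)
      ((S ⧸ IS) ⧸ (IsLocalRing.maximalIdeal S).map (Ideal.Quotient.mk IS))) := fun p hp => by
    haveI := hTor2 p hp
    exact (((CategoryTheory.Tor (ModuleCat.{u} (S ⧸ IS)) p).obj (ModuleCat.of (S ⧸ IS) (S ⧸ J))).mapIso
      e1.toModuleIso).toLinearEquiv.toEquiv.subsingleton
  obtain ⟨⟨gs, hgs, hgsreg⟩, hrs'⟩ := exists_regular_of_tor IS J hISJ hJ (N + zs.length) hTor3 hJreg
  refine ⟨?_, hrs'⟩
  -- descent to the base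
  obtain ⟨r, F, hFI, hind⟩ := exists_minimal_generators I
  let G : Fin r → S := fun i => algebraMap R S (F i)
  have hG : Ideal.span (Set.range G) = IS := by
    show _ = I.map _
    rw [← hFI, Ideal.map_span, ← Set.range_comp]
    rfl
  have hGind : ∀ b : Fin r → S, ∑ i, b i * G i ∈ IsLocalRing.maximalIdeal S * IS →
      ∀ i, b i ∈ IsLocalRing.maximalIdeal S := by
    intro b hb i
    rw [← hG] at hb
    obtain ⟨c, hc, hcb⟩ : ∃ c : Fin r → S, (∀ i, c i ∈ IsLocalRing.maximalIdeal S) ∧ ∑ i, c i * G i = ∑ i, b i * G i := by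
      obtain ⟨c, hc, hsum⟩ := (Submodule.mem_ideal_smul_span_iff_exists_sum _ G _).1 hb
      exact ⟨c, hc, by rw [← hsum]; simp [Finsupp.sum_fintype]⟩
    have h0 : ∑ i, F i • (b i - c i) = 0 := by
      have e1 : ∀ i, F i • (b i - c i) = b i * G i - c i * G i := fun i => by
        rw [Algebra.smul_def]; show algebraMap R S (F i) * _ = _; simp only [G]; ring
      rw [Finset.sum_congr rfl (fun i _ => e1 i), Finset.sum_sub_distrib, hcb, sub_self]
    obtain ⟨k, a, y, hbc, ha⟩ := Module.Flat.isTrivialRelation_of_sum_smul_eq_zero (R := R) (M := S) (f := F) (x := fun i => b i - c i) h0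
    have hai : ∀ i j, a i j ∈ m := fun i j => hind (fun i => a i j) (by
      rw [show ∑ i, a i j * F i = 0 by simpa [mul_comm] using ha j]
      exact zero_mem _) i
    have hbc' : b i - c i ∈ IsLocalRing.maximalIdeal S := by
      rw [show b i - c i = _ from hbc i]
      refine Ideal.sum_mem _ fun j _ => ?_
      rw [Algebra.smul_def]
      exact Ideal.mul_mem_right _ _ (hmS (Ideal.mem_map_of_mem _ (hai i j)))
    simpa using Ideal.add_mem _ hbc' (hc i)
  have hIStop : IS ≠ ⊤ := ne_top_of_le_ne_top hJ hISJ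
  have hf : Ideal.span (Set.range gs.get) = IS := by
    rw [← hgs]
    show Ideal.span (Set.range gs.get) = Ideal.span {x | x ∈ gs}
    rw [Set.range_list_get]
  have hfa : Wiebe.Acyclic gs.get := KoszulLib.acyclic_of_isWeaklyRegular' (by
    rw [List.ofFn_get]; exact hgsreg.toIsWeaklyRegular)
  obtain ⟨e, h, hre, hh, -⟩ := KoszulLib.exists_exchange (KoszulLib.isH1Regular_of_acyclic hfa) (hf.symm ▸ hIStop) G
    (fun i => hf.symm ▸ hG.le (Ideal.subset_span ⟨i, rfl⟩)) (fun b hb => hGind b (hf ▸ hb)) ∅ (Set.empty_subset _)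
    (le_sup_of_le_left (hf.le.trans hG.ge))
  obtain rfl : e = 0 := by
    by_contra he
    exact hh ⟨0, Nat.pos_of_ne_zero he⟩
  have hGw : IsWeaklyRegular S (List.ofFn G) := isWeaklyRegular_of_acyclic
    (fun i => IsLocalRing.le_maximalIdeal hIStop (hG.le (Ideal.subset_span ⟨i, rfl⟩)))
    (KoszulLib.acyclic_of_length_le hfa (hf.trans hG.symm) (by simpa using hre.le))
  haveI : Module.FaithfullyFlat R S := Module.FaithfullyFlat.of_flat_of_isLocalHom
  have hFw : IsWeaklyRegular R (List.ofFn F) := by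
    rw [← RegIdeal.wReg_iff]
    intro i x hx
    have h1 := (RegIdeal.wReg_iff G).2 hGw i (algebraMap R S x) (by
      show algebraMap R S (F i) * algebraMap R S x ∈ _
      rw [← map_mul, show G '' Set.Iio i = algebraMap R S '' (F '' Set.Iio i) from (Set.image_image ..).symm,
        ← Ideal.map_span]
      exact Ideal.mem_map_of_mem _ hx)
    rw [show G '' Set.Iio i = algebraMap R S '' (F '' Set.Iio i) from (Set.image_image ..).symm, ← Ideal.map_span,
      ← Ideal.mem_comap, Ideal.comap_map_eq_self_of_faithfullyFlat] at h1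
    exact h1
  have hofF : Ideal.ofList (List.ofFn F) = I := by
    rw [← hFI]
    show Ideal.span {x | x ∈ List.ofFn F} = _
    congr 1
    ext x
    simp [List.mem_ofFn]
  refine ⟨List.ofFn F, hofF, (IsLocalRing.isRegular_iff_isWeaklyRegular_of_subset_maximalIdeal fun x hx => ?_).2 hFw⟩
  refine IsLocalRing.le_maximalIdeal (fun h => hIStop ?_) (hofF.le (Ideal.subset_span hx))
  show I.map _ = ⊤
  rw [h, Ideal.map_top]

end Groth.Agent.TorCI
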