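import Groth.Agent.TorCI.CohenCover
import Groth.Agent.TorCI.FlatPair
import Groth.Agent.TorCI.Pair
import Groth.Agent.SyntLib.AbsCI
import Groth.Agent.InjFibre.RegSeq
import Groth.Agent.AdicBasics.Exact
import Groth.Agent.AdicBasics.LocalMap
import Groth.Agent.FlatDepth.Quot
import Groth.Agent.FlatDepth.RegHom
import Mathlib.RingTheory.Ideal.KrullsHeightTheorem

/-!
# Complete intersections and flat local homomorphisms
-/

set_option autoImplicit false
set_option linter.style.haveILetI false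
set_option backward.isDefEq.respectTransparency false
universe u

open IsLocalRing RingTheory.Sequence TensorProduct

namespace Groth.Agent.TorCI

theorem isCI_iff_regular {R A : Type u} [CommRing R] [IsRegularLocalRing R] [CommRing A] [IsLocalRing A]
    (π : R →+* A) (hπ : Function.Surjective π) :
    Pi1.IsCompleteIntersection A ↔ ∃ rs : List R, IsRegular R rs ∧ RingHom.ker π = Ideal.ofList rs :=
  (SyntLib.isCompleteIntersection_iff_numCI π hπ).trans (SyntLib.numCI_iff_regular π hπ)

/-- the dimension formula along a flat local homomorphism -/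
theorem ringKrullDim_flat_local (A B : Type u) [CommRing A] [CommRing B] [IsNoetherianRing A] [IsNoetherianRing B]
    [IsLocalRing A] [IsLocalRing B] [Algebra A B] [IsLocalHom (algebraMap A B)] [Module.Flat A B] :
    ringKrullDim B = ringKrullDim A + ringKrullDim (B ⧸ (maximalIdeal A).map (algebraMap A B)) := by
  haveI : (maximalIdeal B).LiesOver (maximalIdeal A) :=
    ⟨(((IsLocalRing.local_hom_TFAE (algebraMap A B)).out 0 4).1 (‹IsLocalHom (algebraMap A B)›) : (maximalIdeal B).comap (algebraMap A B) = maximalIdeal A).symm⟩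
  let I := (maximalIdeal A).map (algebraMap A B)
  have hI : I ≠ ⊤ := ne_top_of_le_ne_top (maximalIdeal.isMaximal B).ne_top map_maximal_le
  haveI : Nontrivial (B ⧸ I) := Ideal.Quotient.nontrivial_iff.2 hI
  haveI : IsLocalRing (B ⧸ I) := .of_surjective' (Ideal.Quotient.mk I) Ideal.Quotient.mk_surjective
  haveI : IsLocalHom (Ideal.Quotient.mk I) := IsLocalHom.of_surjective _ Ideal.Quotient.mk_surjective
  rw [← IsLocalRing.maximalIdeal_height_eq_ringKrullDim, ← IsLocalRing.maximalIdeal_height_eq_ringKrullDim,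
    Ideal.height_eq_height_add_of_liesOver_of_hasGoingDown (maximalIdeal A) (maximalIdeal B),
    SyntLib.map_maximalIdeal_of_surjective (Ideal.Quotient.mk I) Ideal.Quotient.mk_surjective, WithBot.coe_add]
  exact congrArg (_ + ·) IsLocalRing.maximalIdeal_height_eq_ringKrullDim

/-- `IsCompleteIntersection` only depends on the completion -/
theorem isCI_of_completionEquiv {A B : Type u} [CommRing A] [CommRing B] [IsLocalRing A] [IsLocalRing B]
    (e : AdicCompletion (maximalIdeal B) B ≃+* AdicCompletion (maximalIdeal A) A)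
    (h : Pi1.IsCompleteIntersection A) : Pi1.IsCompleteIntersection B := by
  obtain ⟨R, _, _, rs, hm, hreg, ⟨f⟩⟩ := h
  exact ⟨R, inferInstance, inferInstance, rs, hm, hreg, ⟨e.trans f⟩⟩

theorem isCI_of_ringEquiv {A B : Type u} [CommRing A] [CommRing B] [IsLocalRing A] [IsLocalRing B]
    [IsNoetherianRing A] [IsNoetherianRing B] (e : A ≃+* B) (h : Pi1.IsCompleteIntersection A) :
    Pi1.IsCompleteIntersection B := by
  obtain ⟨ψ, hψ, -, hker⟩ := FlatDepth.exists_cpl_quotient e.toRingHom e.surjective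
  have hinj : Function.Injective ψ := by
    rw [RingHom.injective_iff_ker_eq_bot, hker, (RingHom.injective_iff_ker_eq_bot e.toRingHom).1 e.injective, Ideal.map_bot]
  exact isCI_of_completionEquiv (RingEquiv.ofBijective ψ ⟨hinj, hψ⟩).symm h

/-- a complete Noetherian local ring is a quotient of a regular local ring -/
theorem exists_regular_cover (A : Type u) [CommRing A] [IsNoetherianRing A] [IsLocalRing A]
    [IsAdicComplete (maximalIdeal A) A] :
    ∃ (R : Type u) (_ : CommRing R) (_ : IsRegularLocalRing R) (π : R →+* A), Function.Surjective π := by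
  obtain ⟨R, _, _, P, _, _, ρ, _, π, τ, -, -, hπ, -⟩ := exists_good_cover (RingHom.id A)
  exact ⟨R, inferInstance, inferInstance, π, hπ⟩

theorem isCI_adicCompletion (A : Type u) [CommRing A] [IsNoetherianRing A] [IsLocalRing A] :
    Pi1.IsCompleteIntersection (AdicCompletion (maximalIdeal A) A) ↔ Pi1.IsCompleteIntersection A := by
  constructor
  · intro h
    obtain ⟨R, _, _, π, hπ⟩ := exists_regular_cover (AdicCompletion (maximalIdeal A) A)
    obtain ⟨rs, hreg, hker⟩ := (isCI_iff_regular π hπ).1 h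
    refine ⟨R, inferInstance, inferInstance, rs, fun r hr => le_maximalIdeal (RingHom.ker_ne_top π)
      (hker.ge (Ideal.subset_span hr)), hreg, ⟨?_⟩⟩
    exact ((Ideal.quotEquivOfEq (show Ideal.span {r | r ∈ rs} = RingHom.ker π from hker.symm)).trans
      (RingHom.quotientKerEquivOfSurjective hπ)).symm
  · rintro ⟨R, _, _, rs, hm, hreg, ⟨e⟩⟩
    refine (isCI_iff_regular (e.symm.toRingHom.comp (Ideal.Quotient.mk _))
      (e.symm.surjective.comp Ideal.Quotient.mk_surjective)).2 ⟨rs, hreg, ?_⟩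
    rw [← RingHom.comap_ker, (RingHom.injective_iff_ker_eq_bot e.symm.toRingHom).1 e.symm.injective, ← RingHom.ker_eq_comap_bot,
      Ideal.mk_ker]

/-- regular sequences generating the kernel of a fibre lift to the whole, over a flat base -/
theorem exists_transRegular_lift {A S : Type u} [CommRing A] [CommRing S] [IsLocalRing A] [IsLocalRing S]
    [IsNoetherianRing S] [Algebra A S] [IsLocalHom (algebraMap A S)] [Module.Flat A S]
    (J : Ideal S) (hJ : J ≠ ⊤) [Module.Flat A (S ⧸ J)]
    (ys : List (S ⧸ (maximalIdeal A).map (algebraMap A S)))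
    (hys : Ideal.ofList ys = J.map (Ideal.Quotient.mk ((maximalIdeal A).map (algebraMap A S))))
    (hreg : IsRegular (S ⧸ (maximalIdeal A).map (algebraMap A S)) ys) :
    ∃ rs : List S, Ideal.ofList rs = J ∧ IsRegular S rs ∧
      ∀ i ≤ rs.length, Module.Flat A (S ⧸ (Ideal.ofList (rs.take i) • (⊤ : Submodule S S))) := by
  classical
  let mS := (maximalIdeal A).map (algebraMap A S)
  have hch : ∀ y : {y // y ∈ ys}, ∃ z ∈ J, Ideal.Quotient.mk mS z = y.1 := fun y =>
    (Ideal.mem_map_iff_of_surjective _ Ideal.Quotient.mk_surjective).1 (hys.le (Ideal.subset_span y.2))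
  choose σ hσJ hσ using hch
  let zs := ys.attach.map σ
  have hzs : zs.map (Ideal.Quotient.mk mS) = ys := by
    rw [List.map_map, show (Ideal.Quotient.mk mS) ∘ σ = Subtype.val from funext hσ]
    exact ys.attach_map_subtype_val
  have hzJ : ∀ z ∈ zs, z ∈ J := fun z hz => by
    obtain ⟨y, -, rfl⟩ := List.mem_map.1 hz
    exact hσJ y
  have hle : Ideal.ofList zs ≤ J := Ideal.span_le.2 hzJ
  have hzm : ∀ z ∈ zs, z ∈ maximalIdeal S := fun z hz => le_maximalIdeal hJ (hzJ z hz)
  have h1 : IsWeaklyRegular (S ⧸ mS) zs := by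
    rw [← isWeaklyRegular_map_algebraMap_iff (S ⧸ mS), Ideal.Quotient.algebraMap_eq, hzs]
    exact hreg.toIsWeaklyRegular
  have h2 : IsWeaklyRegular (S ⧸ (mS • (⊤ : Submodule S S))) zs :=
    ((Submodule.quotEquivOfEq _ _ (by rw [smul_eq_mul, Ideal.mul_top])).isWeaklyRegular_congr _).2 h1
  obtain ⟨h3, h3f⟩ := InjFibre.regSeq_noeth (A := A) S zs h2
  refine ⟨zs, le_antisymm hle ?_, (IsLocalRing.isRegular_iff_isWeaklyRegular_of_subset_maximalIdeal hzm).2 h3, h3f⟩
  refine Submodule.le_of_le_smul_of_le_jacobson_bot (IsNoetherian.noetherian J)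
    (IsLocalRing.maximalIdeal_le_jacobson _) fun x hx => ?_
  have h4 : Ideal.Quotient.mk mS x ∈ (Ideal.ofList zs).map (Ideal.Quotient.mk mS) := by
    rw [Ideal.map_ofList, hzs, hys]
    exact Ideal.mem_map_of_mem _ hx
  obtain ⟨z, hz, hzx⟩ := (Ideal.mem_map_iff_of_surjective _ Ideal.Quotient.mk_surjective).1 h4
  have h5 : x - z ∈ mS := Ideal.Quotient.eq.1 hzx.symm
  have h6 : (⟨x - z, sub_mem hx (hle hz)⟩ : J) ∈ (maximalIdeal A • ⊤ : Submodule A J) := by
    refine AdicBasics.mem_smul_of_flat_quotient (R := A) (K := J) (M := S) (N := S ⧸ J)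
      (J.subtype.restrictScalars A) ((J.mkQ).restrictScalars A) Subtype.val_injective (Submodule.mkQ_surjective J)
      (fun y => by simp [Submodule.Quotient.mk_eq_zero, Ideal.Quotient.eq_zero_iff_mem]) (maximalIdeal A) _ ?_
    rw [Ideal.smul_top_eq_map, Submodule.restrictScalars_mem]
    exact h5
  have h7 : x - z ∈ maximalIdeal S • J := by
    refine Submodule.smul_induction_on (p := fun (y : J) => (y : S) ∈ maximalIdeal S • J) h6 (fun a ha y _ => ?_)
      (fun y y' hy hy' => add_mem hy hy')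
    show ((a • y : J) : S) ∈ _
    rw [Submodule.coe_smul_of_tower, ← algebraMap_smul S a (y : S)]
    exact Submodule.smul_mem_smul (map_nonunit (algebraMap A S) a ha) y.2
  rw [← add_sub_cancel z x]
  exact Submodule.add_mem_sup hz h7

theorem exists_regular_lift {A S : Type u} [CommRing A] [CommRing S] [IsLocalRing A] [IsLocalRing S]
    [IsNoetherianRing S] [Algebra A S] [IsLocalHom (algebraMap A S)] [Module.Flat A S]
    (J : Ideal S) (hJ : J ≠ ⊤) [Module.Flat A (S ⧸ J)]
    (ys : List (S ⧸ (maximalIdeal A).map (algebraMap A S)))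
    (hys : Ideal.ofList ys = J.map (Ideal.Quotient.mk ((maximalIdeal A).map (algebraMap A S))))
    (hreg : IsRegular (S ⧸ (maximalIdeal A).map (algebraMap A S)) ys) :
    ∃ rs : List S, Ideal.ofList rs = J ∧ IsRegular S rs := by
  obtain ⟨rs, h1, h2, -⟩ := exists_transRegular_lift J hJ ys hys hreg
  exact ⟨rs, h1, h2⟩

/-- the kernel of a map of complete intersections -/
theorem numCI_of_dims {S F : Type u} [CommRing S] [CommRing F] (σ : S →+* F) (rs : List S)
    (hker : RingHom.ker σ = Ideal.ofList rs) (a s f b : ℕ) (hS : ringKrullDim S = s) (hF : ringKrullDim F = f)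
    (h1 : b + rs.length = a + s) (h2 : b = a + f) : SyntLib.NumCI σ := by
  refine ⟨rs, hker, ?_⟩
  rw [hS, hF, ← Nat.cast_add]
  exact congrArg _ (by omega)

/-- the flat case with given regular covers -/
theorem isCI_flat_iff_of_cover {A B R P : Type u} [CommRing A] [CommRing B] [CommRing R] [CommRing P]
    [IsNoetherianRing A] [IsNoetherianRing B] [IsLocalRing A] [IsLocalRing B] [IsRegularLocalRing R]
    [IsRegularLocalRing P] [Algebra A B] [IsLocalHom (algebraMap A B)] [Module.Flat A B]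
    [IsLocalRing (B ⧸ (maximalIdeal A).map (algebraMap A B))]
    [Algebra R P] [IsLocalHom (algebraMap R P)] [Module.Flat R P]
    [IsRegularLocalRing (P ⧸ (maximalIdeal R).map (algebraMap R P))]
    (π : R →+* A) (hπ : Function.Surjective π) (τ : P →+* B) (hτ : Function.Surjective τ)
    (hcomp : τ.comp (algebraMap R P) = (algebraMap A B).comp π) :
    Pi1.IsCompleteIntersection B ↔
      Pi1.IsCompleteIntersection A ∧
        Pi1.IsCompleteIntersection (B ⧸ (maximalIdeal A).map (algebraMap A B)) := by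
  classical
  let I := RingHom.ker π
  let J := RingHom.ker τ
  let m := maximalIdeal R
  let IS := I.map (algebraMap R P)
  let mP := m.map (algebraMap R P)
  let mB := (maximalIdeal A).map (algebraMap A B)
  haveI : IsLocalHom π := IsLocalHom.of_surjective π hπ
  have hIJ : IS ≤ J := Ideal.map_le_iff_le_comap.2 fun x hx => by
    show τ (algebraMap R P x) = 0
    rw [← RingHom.comp_apply, hcomp, RingHom.comp_apply, show π x = 0 from hx, map_zero]
  have hJ : J ≠ ⊤ := RingHom.ker_ne_top _
  have hI : I ≠ ⊤ := RingHom.ker_ne_top _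
  letI : Algebra (R ⧸ I) (P ⧸ J) :=
    (Ideal.quotientMap J (algebraMap R P) (Ideal.map_le_iff_le_comap.1 hIJ)).toAlgebra
  haveI : IsScalarTower R (R ⧸ I) (P ⧸ J) := IsScalarTower.of_algebraMap_eq fun _ => rfl
  let eA : (R ⧸ I) ≃+* A := RingHom.quotientKerEquivOfSurjective hπ
  let eB : (P ⧸ J) ≃+* B := RingHom.quotientKerEquivOfSurjective hτ
  haveI hflat : Module.Flat (R ⧸ I) (P ⧸ J) := by
    have h1 : eB.symm.toRingHom.comp ((algebraMap A B).comp eA.toRingHom) = algebraMap (R ⧸ I) (P ⧸ J) := by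
      refine RingHom.ext fun x => ?_
      obtain ⟨r, rfl⟩ := Ideal.Quotient.mk_surjective x
      refine eB.injective ?_
      show eB (eB.symm (algebraMap A B (π r))) = τ (algebraMap R P r)
      rw [eB.apply_symm_apply]
      exact (RingHom.congr_fun hcomp r).symm
    have h2 : (algebraMap (R ⧸ I) (P ⧸ J)).Flat := h1 ▸ RingHom.Flat.comp
      (RingHom.Flat.comp (RingHom.Flat.of_bijective eA.bijective) (RingHom.flat_algebraMap_iff.2 inferInstance))
      (RingHom.Flat.of_bijective eB.symm.bijective)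
    exact RingHom.flat_algebraMap_iff.1 h2
  -- the fibre
  have hmB : mP.map τ = mB := by
    rw [Ideal.map_map, hcomp, ← Ideal.map_map, SyntLib.map_maximalIdeal_of_surjective π hπ]
  have hσle : mP ≤ mB.comap τ := Ideal.map_le_iff_le_comap.1 hmB.le
  let σ : P ⧸ mP →+* B ⧸ mB := Ideal.quotientMap mB τ hσle
  have hσs : Function.Surjective σ := Ideal.quotientMap_surjective hτ
  have hσk : RingHom.ker σ = J.map (Ideal.Quotient.mk mP) := by
    refine Ideal.comap_injective_of_surjective _ Ideal.Quotient.mk_surjective ?_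
    rw [RingHom.comap_ker, Ideal.comap_map_of_surjective _ Ideal.Quotient.mk_surjective, ← RingHom.ker_eq_comap_bot,
      Ideal.mk_ker, show σ.comp (Ideal.Quotient.mk mP) = (Ideal.Quotient.mk mB).comp τ from RingHom.ext fun _ => rfl,
      ← RingHom.comap_ker, Ideal.mk_ker, ← hmB, Ideal.comap_map_of_surjective _ hτ, ← RingHom.ker_eq_comap_bot,
      sup_comm]
  -- the intermediate ring
  haveI : Nontrivial (P ⧸ IS) := Ideal.Quotient.nontrivial_iff.2 (ne_top_of_le_ne_top hJ hIJ)
  haveI : IsLocalRing (P ⧸ IS) := .of_surjective' (Ideal.Quotient.mk IS) Ideal.Quotient.mk_surjective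
  haveI : Nontrivial (R ⧸ I) := Ideal.Quotient.nontrivial_iff.2 hI
  haveI : IsLocalRing (R ⧸ I) := .of_surjective' (Ideal.Quotient.mk I) Ideal.Quotient.mk_surjective
  haveI : Module.Flat (R ⧸ I) (P ⧸ IS) := flat_quotient_map I
  haveI : IsLocalHom (Ideal.Quotient.mk IS) := IsLocalHom.of_surjective _ Ideal.Quotient.mk_surjective
  haveI : IsLocalHom (Ideal.Quotient.mk I) := IsLocalHom.of_surjective _ Ideal.Quotient.mk_surjective
  have hmRI : maximalIdeal (R ⧸ I) = m.map (Ideal.Quotient.mk I) :=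
    (SyntLib.map_maximalIdeal_of_surjective _ Ideal.Quotient.mk_surjective).symm
  have hmS : (maximalIdeal (R ⧸ I)).map (algebraMap (R ⧸ I) (P ⧸ IS)) = mP.map (Ideal.Quotient.mk IS) := by
    rw [hmRI, Ideal.map_map, Ideal.map_map]
    rfl
  haveI : IsLocalHom (algebraMap (R ⧸ I) (P ⧸ IS)) := ((IsLocalRing.local_hom_TFAE _).out 0 2).2 (by
    rw [hmS, ← SyntLib.map_maximalIdeal_of_surjective (Ideal.Quotient.mk IS) Ideal.Quotient.mk_surjective]
    exact Ideal.map_mono map_maximal_le)
  have hISm : IS ≤ mP := Ideal.map_mono (le_maximalIdeal hI)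
  let eF : ((P ⧸ IS) ⧸ (maximalIdeal (R ⧸ I)).map (algebraMap (R ⧸ I) (P ⧸ IS))) ≃+* P ⧸ mP :=
    (Ideal.quotEquivOfEq hmS).trans (DoubleQuot.quotQuotEquivQuotOfLE hISm)
  have heF : ∀ x, eF (Ideal.Quotient.mk _ (Ideal.Quotient.mk IS x)) = Ideal.Quotient.mk mP x := fun x => rfl
  let J' := J.map (Ideal.Quotient.mk IS)
  have hJ' : J' ≠ ⊤ := fun h => hJ (by
    have := congrArg (Ideal.comap (Ideal.Quotient.mk IS)) h
    rwa [Ideal.comap_top, Ideal.comap_map_of_surjective _ Ideal.Quotient.mk_surjective, ← RingHom.ker_eq_comap_bot,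
      Ideal.mk_ker, sup_eq_left.2 hIJ] at this)
  constructor
  · intro hB
    obtain ⟨ts, htsreg, hts⟩ := (isCI_iff_regular τ hτ).1 hB
    obtain ⟨N, hN⟩ := PCMor.td_of_flat (f := algebraMap (R ⧸ I) (P ⧸ J)) (RingHom.flat_algebraMap_iff.2 hflat)
    have : (algebraMap (R ⧸ I) (P ⧸ J)).toAlgebra = ‹Algebra (R ⧸ I) (P ⧸ J)› :=
      Algebra.algebra_ext _ _ fun _ => rfl
    rw [this] at hN
    obtain ⟨⟨rs, hrs, hrsreg⟩, rs', hrs', hrs'reg⟩ :=
      split_of_tor I J hJ hIJ N (fun p hp => hN _ p hp) ⟨ts, hts.symm, htsreg⟩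
    refine ⟨(isCI_iff_regular π hπ).2 ⟨rs, hrsreg, hrs.symm⟩, ?_⟩
    refine (SyntLib.isCompleteIntersection_iff_numCI σ hσs).2 ?_
    obtain ⟨a, ha⟩ := SerreReg.exists_dim_nat A
    obtain ⟨b, hb⟩ := SerreReg.exists_dim_nat B
    obtain ⟨f, hf⟩ := SerreReg.exists_dim_nat (B ⧸ mB)
    obtain ⟨s, hs⟩ := SerreReg.exists_dim_nat (P ⧸ mP)
    refine numCI_of_dims σ (rs'.map (Ideal.Quotient.factor hISm)) ?_ a s f b hs hf ?_ ?_
    · rw [hσk, ← Ideal.map_ofList, hrs', Ideal.map_map, Ideal.Quotient.factor_comp_mk]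
    · have h1 := ringKrullDim_add_length_eq_ringKrullDim_of_isRegular rs' hrs'reg
      rw [hrs', ringKrullDim_eq_of_ringEquiv ((DoubleQuot.quotQuotEquivQuotOfLE hIJ).trans eB),
        ringKrullDim_flat_local (R ⧸ I) (P ⧸ IS), ringKrullDim_eq_of_ringEquiv eA, ringKrullDim_eq_of_ringEquiv eF,
        ha, hb, hs] at h1
      rw [List.length_map]
      exact_mod_cast h1
    · have h1 := ringKrullDim_flat_local A B
      rw [ha, hb, hf] at h1
      exact_mod_cast h1
  · rintro ⟨hA, hF⟩
    obtain ⟨rs, hrsreg, hrs⟩ := (isCI_iff_regular π hπ).1 hA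
    obtain ⟨ys, hysreg, hys⟩ := (isCI_iff_regular σ hσs).1 hF
    haveI : Module.Flat (R ⧸ I) ((P ⧸ IS) ⧸ J') := Module.Flat.of_linearEquiv
      (AlgEquiv.ofRingEquiv (R := R ⧸ I) (f := DoubleQuot.quotQuotEquivQuotOfLE hIJ) fun x => by
        obtain ⟨r, rfl⟩ := Ideal.Quotient.mk_surjective x
        rfl).toLinearEquiv
    obtain ⟨rs', hrs', hrs'reg⟩ := exists_regular_lift (A := R ⧸ I) J' hJ' (ys.map eF.symm) (by
      rw [show ys.map eF.symm = ys.map eF.symm.toRingHom from rfl, ← Ideal.map_ofList, ← hys, hσk, Ideal.map_map,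
        Ideal.map_map]
      congr 1) (isRegular_map_ringEquiv eF.symm hysreg)
    obtain ⟨⟨ts, hts, htsreg⟩, -⟩ := regular_and_finiteTorDim I J hJ hIJ rs hrs.symm hrsreg rs' hrs' hrs'reg
    exact (isCI_iff_regular τ hτ).2 ⟨ts, htsreg, hts.symm⟩

/-- Avramov's theorem for complete rings. -/
theorem isCI_flat_iff_complete {A B : Type u} [CommRing A] [CommRing B] [IsNoetherianRing A] [IsNoetherianRing B]
    [IsLocalRing A] [IsLocalRing B] [IsAdicComplete (maximalIdeal A) A] [IsAdicComplete (maximalIdeal B) B]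
    [Algebra A B] [IsLocalHom (algebraMap A B)] [Module.Flat A B]
    [IsLocalRing (B ⧸ (maximalIdeal A).map (algebraMap A B))] :
    Pi1.IsCompleteIntersection B ↔
      Pi1.IsCompleteIntersection A ∧
        Pi1.IsCompleteIntersection (B ⧸ (maximalIdeal A).map (algebraMap A B)) := by
  obtain ⟨R, _, _, P, _, _, ρ, hρl, π, τ, hρf, hfib, hπ, hτ, hcomp, -⟩ := exists_good_cover (algebraMap A B)
  letI := ρ.toAlgebra
  haveI : IsLocalHom (algebraMap R P) := hρl
  haveI : Module.Flat R P := hρf
  haveI : IsRegularLocalRing (P ⧸ (maximalIdeal R).map (algebraMap R P)) := hfib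
  exact isCI_flat_iff_of_cover π hπ τ hτ hcomp

/-- Avramov's theorem. -/
theorem isCI_flat_iff {A B : Type u} [CommRing A] [CommRing B] [IsNoetherianRing A] [IsNoetherianRing B]
    [IsLocalRing A] [IsLocalRing B] [Algebra A B] [IsLocalHom (algebraMap A B)] [Module.Flat A B]
    [IsLocalRing (B ⧸ (maximalIdeal A).map (algebraMap A B))] :
    Pi1.IsCompleteIntersection B ↔
      Pi1.IsCompleteIntersection A ∧
        Pi1.IsCompleteIntersection (B ⧸ (maximalIdeal A).map (algebraMap A B)) := by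
  let A' := AdicCompletion (maximalIdeal A) A
  let B' := AdicCompletion (maximalIdeal B) B
  let mB := (maximalIdeal A).map (algebraMap A B)
  obtain ⟨ψ, hψ⟩ := FlatDepth.exists_cpl_map (algebraMap A B)
  letI : Algebra A' B' := ψ.toAlgebra
  haveI : IsLocalHom (algebraMap A' B') := AdicBasics.isLocalHom_completionMap _ ψ hψ
  haveI : Module.Flat A' B' :=
    (AdicBasics.flat_completionMap_iff (algebraMap A B) ψ hψ).2 (RingHom.flat_algebraMap_iff.2 inferInstance)
  let mB' := (maximalIdeal A').map (algebraMap A' B')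
  haveI : Nontrivial (B' ⧸ mB') :=
    Ideal.Quotient.nontrivial_iff.2 (ne_top_of_le_ne_top (maximalIdeal.isMaximal B').ne_top map_maximal_le)
  haveI : IsLocalRing (B' ⧸ mB') := .of_surjective' (Ideal.Quotient.mk mB') Ideal.Quotient.mk_surjective
  obtain ⟨θ, hθ, -, hθk⟩ := FlatDepth.exists_cpl_quotient (Ideal.Quotient.mk mB) Ideal.Quotient.mk_surjective
  rw [Ideal.mk_ker, ← AdicBasics.map_max_eq (algebraMap A B) ψ hψ] at hθk
  let e : (B' ⧸ mB') ≃+* AdicCompletion (maximalIdeal (B ⧸ mB)) (B ⧸ mB) :=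
    (Ideal.quotEquivOfEq hθk.symm).trans (RingHom.quotientKerEquivOfSurjective hθ)
  rw [← isCI_adicCompletion B, ← isCI_adicCompletion A, isCI_flat_iff_complete (A := A') (B := B')]
  exact and_congr Iff.rfl ⟨fun h => (isCI_adicCompletion _).1 (isCI_of_ringEquiv e h),
    fun h => isCI_of_ringEquiv e.symm ((isCI_adicCompletion _).2 h)⟩

end Groth.Agent.TorCI
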