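import Groth.Agent.TorCI.CIRing
import Groth.Agent.CMFlat.BaseField
import Mathlib.AlgebraicGeometry.Morphisms.FiniteType

/-!
# Complete intersection local rings of schemes
-/

set_option autoImplicit false
set_option linter.style.haveILetI false
set_option backward.isDefEq.respectTransparency false
universe u

open CategoryTheory AlgebraicGeometry Limits IsLocalRing
open scoped TensorProduct

namespace Groth.Agent.TorCI

theorem isCI_stalk_iff {X Y : Scheme.{u}} (f : X ⟶ Y) (x : X) [IsNoetherianRing (X.presheaf.stalk x)]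
    [IsNoetherianRing (Y.presheaf.stalk (f x))] (hflat : (f.stalkMap x).hom.Flat) :
    Pi1.IsCompleteIntersection (X.presheaf.stalk x) ↔
      Pi1.IsCompleteIntersection (Y.presheaf.stalk (f x)) ∧
        Pi1.IsCompleteIntersection ((f.fiber (f x)).presheaf.stalk (f.asFiber x)) := by
  letI := (f.stalkMap x).hom.toAlgebra
  haveI : Module.Flat (Y.presheaf.stalk (f x)) (X.presheaf.stalk x) := hflat
  haveI : IsLocalHom (algebraMap (Y.presheaf.stalk (f x)) (X.presheaf.stalk x)) :=
    inferInstanceAs (IsLocalHom (f.stalkMap x).hom)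
  obtain ⟨e⟩ := CMFlat.nonempty_fiberStalk_equiv f x
  let J := (maximalIdeal (Y.presheaf.stalk (f x))).map (algebraMap (Y.presheaf.stalk (f x)) (X.presheaf.stalk x))
  haveI : Nontrivial (X.presheaf.stalk x ⧸ J) :=
    Ideal.Quotient.nontrivial_iff.2 (ne_top_of_le_ne_top (maximalIdeal.isMaximal _).ne_top map_maximal_le)
  haveI : IsLocalRing (X.presheaf.stalk x ⧸ J) := .of_surjective' (Ideal.Quotient.mk J) Ideal.Quotient.mk_surjective
  haveI : IsNoetherianRing ((f.fiber (f x)).presheaf.stalk (f.asFiber x)) :=
    isNoetherianRing_of_ringEquiv (X.presheaf.stalk x ⧸ J) e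
  exact (isCI_flat_iff (A := Y.presheaf.stalk (f x)) (B := X.presheaf.stalk x)).trans
    (and_congr_right fun _ => ⟨isCI_of_ringEquiv e, isCI_of_ringEquiv e.symm⟩)

theorem isNoetherianRing_stalk {X Y : Scheme.{u}} (f : X ⟶ Y) [LocallyOfFiniteType f] (x : X)
    [IsNoetherianRing (Y.presheaf.stalk (f x))] : IsNoetherianRing (X.presheaf.stalk x) := by
  letI := (f.stalkMap x).hom.toAlgebra
  haveI : Algebra.EssFiniteType (Y.presheaf.stalk (f x)) (X.presheaf.stalk x) := LocallyOfFiniteType.stalkMap f x
  exact Algebra.EssFiniteType.isNoetherianRing (Y.presheaf.stalk (f x)) (X.presheaf.stalk x)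

theorem isLocalization_stalk_ringEquiv (R : CommRingCat.{u}) (w : Spec R) :
    Nonempty (Localization.AtPrime (w : PrimeSpectrum R).asIdeal ≃+* (Spec R).presheaf.stalk w) :=
  ⟨(AlgebraicGeometry.StructureSheaf.stalkIso R (w : PrimeSpectrum R)).toRingEquiv⟩

/-- The fibres of a base field extension are complete intersections. -/
theorem isCI_fiber_bcFst (k : Type u) [Field k] (X : Scheme.{u}) [X.Over (Spec (CommRingCat.of k))]
    [LocallyOfFiniteType (X ↘ Spec (CommRingCat.of k))]
    (k' : Type u) [Field k'] [Algebra k k'] (x' : ↥(Curv2.bc k X k')) :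
    Pi1.IsCompleteIntersection
      (((Curv2.bcFst k X k').fiber (Curv2.bcFst k X k' x')).presheaf.stalk ((Curv2.bcFst k X k').asFiber x')) := by
  let x := Curv2.bcFst k X k' x'
  let p := X ↘ Spec (CommRingCat.of k)
  let g := Spec.map (CommRingCat.ofHom (algebraMap k k'))
  letI := (CMFlat.resHom k X x).hom.toAlgebra
  haveI : Algebra.EssFiniteType k (X.residueField x) := CMFlat.essFiniteType_resHom k X x
  have hlci : IsLCIRing ((X.residueField x) ⊗[k] k') :=
    isLCIRing_of_ringEquiv (k' ⊗[k] X.residueField x) ((X.residueField x) ⊗[k] k')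
      (Algebra.TensorProduct.comm k k' (X.residueField x)).toRingEquiv
      (isLCIRing_field_tensor k (X.residueField x) k' (IntermediateField.fg_top k (X.residueField x)))
  have h1 : IsPullback ((Curv2.bcFst k X k').fiberToSpecResidueField x)
      ((Curv2.bcFst k X k').fiberι x ≫ pullback.snd p g) (X.fromSpecResidueField x ≫ p) g :=
    (IsPullback.of_hasPullback (Curv2.bcFst k X k') (X.fromSpecResidueField x)).flip.paste_vert
      (IsPullback.of_hasPullback p g)
  have h2 : X.fromSpecResidueField x ≫ p =
      Spec.map (CommRingCat.ofHom (algebraMap k (X.residueField x))) := (Spec.map_preimage _).symm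
  rw [h2] at h1
  let e : (Curv2.bcFst k X k').fiber x ≅ Spec (CommRingCat.of ((X.residueField x) ⊗[k] k')) :=
    h1.isoPullback ≪≫ pullbackSpecIso k (X.residueField x) k'
  let z := (Curv2.bcFst k X k').asFiber x'
  haveI := hlci.1
  haveI : IsNoetherianRing (Localization.AtPrime (e.hom z).asIdeal) :=
    IsLocalization.isNoetherianRing (e.hom z).asIdeal.primeCompl _ inferInstance
  let el := ((StructureSheaf.stalkIso _ (e.hom z)).toRingEquiv).trans
    (asIso (e.hom.stalkMap z)).commRingCatIsoToRingEquiv
  haveI : IsNoetherianRing (((Curv2.bcFst k X k').fiber x).presheaf.stalk z) := isNoetherianRing_of_ringEquiv _ el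
  exact isCI_of_ringEquiv el (hlci.2 _)

/-- Complete intersection local rings are insensitive to the base field. -/
theorem isCI_bc_iff (k : Type u) [Field k] (X : Scheme.{u}) [X.Over (Spec (CommRingCat.of k))]
    [LocallyOfFiniteType (X ↘ Spec (CommRingCat.of k))]
    (k' : Type u) [Field k'] [Algebra k k'] (x' : ↥(Curv2.bc k X k')) :
    Pi1.IsCompleteIntersection (X.presheaf.stalk (Curv2.bcFst k X k' x')) ↔
      Pi1.IsCompleteIntersection ((Curv2.bc k X k').presheaf.stalk x') := by
  haveI : Flat (Spec.map (CommRingCat.ofHom (algebraMap k k'))) :=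
    Flat.SpecMap_iff.2 (RingHom.flat_algebraMap_iff.mpr inferInstance)
  haveI : Flat (Curv2.bcFst k X k') := MorphismProperty.pullback_fst (P := @Flat) _ _ inferInstance
  haveI : IsNoetherianRing (X.presheaf.stalk (Curv2.bcFst k X k' x')) :=
    isNoetherianRing_stalk (X ↘ Spec (CommRingCat.of k)) _
  haveI : LocallyOfFiniteType
      (pullback.snd (X ↘ Spec (CommRingCat.of k)) (Spec.map (CommRingCat.ofHom (algebraMap k k')))) :=
    MorphismProperty.pullback_snd (P := @LocallyOfFiniteType) _ _ inferInstance
  haveI : IsNoetherianRing ((Curv2.bc k X k').presheaf.stalk x') :=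
    isNoetherianRing_stalk
      (pullback.snd (X ↘ Spec (CommRingCat.of k)) (Spec.map (CommRingCat.ofHom (algebraMap k k')))) x'
  rw [isCI_stalk_iff (Curv2.bcFst k X k') x' (Flat.stalkMap _ x')]
  exact (and_iff_left (isCI_fiber_bcFst k X k' x')).symm

end Groth.Agent.TorCI
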