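import Groth.Agent.TorCI.DiagRegular
import Groth.Agent.GeomProp.SmoothRegular
import Groth.Agent.SmDesc.Ring
import Mathlib

/-!
A perfect diagonal forces smoothness.
-/

set_option autoImplicit false
set_option linter.style.haveILetI false
set_option backward.isDefEq.respectTransparency false
universe u

namespace Groth.Agent.TorCI

open Groth.Agent
open scoped TensorProduct

/-- the diagonal's tor dimension is stable under base change of a flat algebra -/
theorem td_lmul_baseChange (A A' B : Type u) [CommRing A] [CommRing A'] [CommRing B] [Algebra A A'] [Algebra A B]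
    [Module.Flat A B] (h : PCMor.TD (Algebra.TensorProduct.lmul' A (S := B)).toRingHom) :
    PCMor.TD (Algebra.TensorProduct.lmul' A' (S := A' ⊗[A] B)).toRingHom := by
  letI : Algebra (B ⊗[A] B) B := (Algebra.TensorProduct.lmul' A (S := B)).toRingHom.toAlgebra
  haveI : IsScalarTower A (B ⊗[A] B) B := IsScalarTower.of_algebraMap_eq (R := A) (S := B ⊗[A] B) (A := B) fun a => by
    show _ = Algebra.TensorProduct.lmul' A (algebraMap A (B ⊗[A] B) a)
    rw [AlgHom.commutes]
  have h1 := td_map_tensor (A := A) (A' := A') (R := B ⊗[A] B) (M := B) h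
  let e : ((A' ⊗[A] B) ⊗[A'] (A' ⊗[A] B)) ≃+* ((B ⊗[A] B) ⊗[A] A') :=
    (Algebra.TensorProduct.cancelBaseChange A A' A' (A' ⊗[A] B) B).toRingEquiv.trans
      ((Algebra.TensorProduct.assoc A A A A' B B).toRingEquiv.trans
        (Algebra.TensorProduct.comm A A' (B ⊗[A] B)).toRingEquiv)
  let e' : (B ⊗[A] A') ≃+* (A' ⊗[A] B) := (Algebra.TensorProduct.comm A B A').toRingEquiv
  have he : (Algebra.TensorProduct.lmul' A' (S := A' ⊗[A] B)).toRingHom = (e'.toRingHom.comp
      (Algebra.TensorProduct.map (IsScalarTower.toAlgHom A (B ⊗[A] B) B) (AlgHom.id A A')).toRingHom).comp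
        e.toRingHom := by
    refine RingHom.ext fun z => ?_
    induction z using TensorProduct.induction_on with
    | zero => simp
    | add z w hz hw => rw [map_add, map_add, hz, hw]
    | tmul v w =>
      induction v using TensorProduct.induction_on with
      | zero => simp
      | add z z' hz hz' => rw [TensorProduct.add_tmul, map_add, map_add, hz, hz']
      | tmul a b =>
        induction w using TensorProduct.induction_on with
        | zero => simp
        | add z z' hz hz' => rw [TensorProduct.tmul_add, map_add, map_add, hz, hz']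
        | tmul a' b' =>
          have h2 : e ((a ⊗ₜ[A] b) ⊗ₜ[A'] (a' ⊗ₜ[A] b')) = (b ⊗ₜ[A] b') ⊗ₜ[A] (a' * a) := by
            show (Algebra.TensorProduct.comm A A' (B ⊗[A] B)) ((Algebra.TensorProduct.assoc A A A A' B B)
              ((Algebra.TensorProduct.cancelBaseChange A A' A' (A' ⊗[A] B) B) ((a ⊗ₜ[A] b) ⊗ₜ[A'] (a' ⊗ₜ[A] b')))) = _
            simp [TensorProduct.smul_tmul']
          show (Algebra.TensorProduct.lmul' A') ((a ⊗ₜ[A] b) ⊗ₜ[A'] (a' ⊗ₜ[A] b')) = e'
            ((Algebra.TensorProduct.map (IsScalarTower.toAlgHom A (B ⊗[A] B) B) (AlgHom.id A A')) (e _))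
          rw [h2]
          show _ = (Algebra.TensorProduct.comm A B A') _
          simp
          show _ = (a' * a) ⊗ₜ[A] (Algebra.TensorProduct.lmul' A (b ⊗ₜ[A] b'))
          simp [mul_comm]
  rw [he]
  exact td_of_bijective_source (td_of_bijective h1 e') e

attribute [local instance] Algebra.TensorProduct.rightAlgebra in
/-- over a field -/
theorem isSmoothAt_of_diag_field (k C₀ C : Type u) [Field k] [CommRing C₀] [CommRing C] [Algebra k C₀] [Algebra k C]
    [Algebra C₀ C] [IsScalarTower k C₀ C] [Algebra.FiniteType k C₀] (M : Submonoid C₀) [IsLocalization M C]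
    (h : PCMor.TD (Algebra.TensorProduct.lmul' k (S := C)).toRingHom) (Q : Ideal C) [Q.IsPrime] :
    Algebra.IsSmoothAt k (Q.comap (algebraMap C₀ C)) := by
  let K := AlgebraicClosure k
  haveI : Algebra.EssFiniteType C₀ C := Algebra.EssFiniteType.of_isLocalization C M
  haveI : Algebra.EssFiniteType k C := Algebra.EssFiniteType.comp k C₀ C
  let φ : (K ⊗[k] C₀) →ₐ[K] (K ⊗[k] C) :=
    Algebra.TensorProduct.map (AlgHom.id K K) (IsScalarTower.toAlgHom k C₀ C)
  letI : Algebra (K ⊗[k] C₀) (K ⊗[k] C) := φ.toRingHom.toAlgebra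
  haveI : IsScalarTower K (K ⊗[k] C₀) (K ⊗[k] C) := IsScalarTower.of_algebraMap_eq' φ.comp_algebraMap.symm
  haveI : IsLocalization (M.map (Algebra.TensorProduct.includeRight (R := k) (A := K))) (K ⊗[k] C) :=
    IsLocalization.tensorProduct_tensorProduct_right k K M C (RingHom.ext fun x => by
      show φ ((1 : K) ⊗ₜ[k] x) = (1 : K) ⊗ₜ[k] algebraMap C₀ C x
      simp [φ])
  haveI : IsNoetherianRing (K ⊗[k] C) := Algebra.EssFiniteType.isNoetherianRing K _
  have hK := td_lmul_baseChange k K C h
  let eC : (K ⊗[k] C) ≃ₐ[C] (C ⊗[k] K) := { Algebra.TensorProduct.comm k K C with commutes' := fun _ => rfl }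
  haveI : Module.FaithfullyFlat C (K ⊗[k] C) := Module.FaithfullyFlat.of_linearEquiv _ _ eC.toLinearEquiv
  obtain ⟨QK, hQK⟩ := PrimeSpectrum.comap_surjective_of_faithfullyFlat (A := C) (B := K ⊗[k] C) ⟨Q, inferInstance⟩
  have hreg := regular_of_diag K (K ⊗[k] C) hK QK.asIdeal
  let P := PrimeSpectrum.comap (algebraMap (K ⊗[k] C₀) (K ⊗[k] C)) QK
  haveI : IsLocalization.AtPrime (Localization.AtPrime QK.asIdeal) P.asIdeal :=
    IsLocalization.isLocalization_isLocalization_atPrime_isLocalization
      (M.map (Algebra.TensorProduct.includeRight (R := k) (A := K))) (Localization.AtPrime QK.asIdeal) QK.asIdeal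
  haveI : IsRegularLocalRing (Localization.AtPrime P.asIdeal) := by
    haveI := hreg
    exact IsRegularLocalRing.of_ringEquiv (R := Localization.AtPrime QK.asIdeal)
      (IsLocalization.algEquiv P.asIdeal.primeCompl (Localization.AtPrime QK.asIdeal) (Localization.AtPrime P.asIdeal)).toRingEquiv
  haveI : Algebra.FinitePresentation k C₀ := Algebra.FinitePresentation.of_finiteType.1 inferInstance
  have hsm := SmDesc.isSmoothAt_of_tensor (R := k) (S := C₀) (T := K) P
    (GeomProp.isSmoothAt_of_regular_algClosed K _ P inferInstance)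
  have hP : PrimeSpectrum.comap (algebraMap C₀ (K ⊗[k] C₀)) P =
      PrimeSpectrum.comap (algebraMap C₀ C) ⟨Q, inferInstance⟩ := by
    rw [← hQK]
    show PrimeSpectrum.comap _ (PrimeSpectrum.comap _ QK) = PrimeSpectrum.comap _ (PrimeSpectrum.comap _ QK)
    rw [← PrimeSpectrum.comap_comp_apply, ← PrimeSpectrum.comap_comp_apply]
    refine congrArg (fun j => PrimeSpectrum.comap j QK) (RingHom.ext fun x => ?_)
    show φ ((1 : K) ⊗ₜ[k] x) = (1 : K) ⊗ₜ[k] algebraMap C₀ C x
    simp [φ]
  rw [hP] at hsm
  exact hsm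

end Groth.Agent.TorCI

namespace Groth.Agent.TorCI

open Groth.Agent
open scoped TensorProduct

/-- the diagonal as given by an algebra structure -/
theorem td_lmul_of_algebra {A B : Type u} [CommRing A] [CommRing B] [Algebra A B] [inst : Algebra (B ⊗[A] B) B]
    (hmul : ∀ x y : B, algebraMap (B ⊗[A] B) B (x ⊗ₜ[A] y) = x * y)
    (h : DRing.HasFiniteTorDim (B ⊗[A] B) B) : PCMor.TD (Algebra.TensorProduct.lmul' A (S := B)).toRingHom := by
  have he : (Algebra.TensorProduct.lmul' A (S := B)).toRingHom = algebraMap (B ⊗[A] B) B := by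
    refine RingHom.ext fun z => ?_
    induction z using TensorProduct.induction_on with
    | zero => simp
    | tmul x y => rw [hmul]; simp
    | add z w hz hw => rw [map_add, map_add, hz, hw]
  rw [he]
  have : (algebraMap (B ⊗[A] B) B).toAlgebra = inst := Algebra.algebra_ext _ _ fun _ => rfl
  show @DRing.HasFiniteTorDim (B ⊗[A] B) _ B _ (algebraMap (B ⊗[A] B) B).toAlgebra.toModule
  rw [this]
  exact h

theorem smooth_of_diag (A B : Type u) [CommRing A] [CommRing B] [Algebra A B] [IsNoetherianRing A]
    [Algebra.FiniteType A B] [Module.Flat A B]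
    (h : PCMor.TD (Algebra.TensorProduct.lmul' A (S := B)).toRingHom) : Algebra.Smooth A B := by
  haveI : Algebra.FinitePresentation A B := Algebra.FinitePresentation.of_finiteType.1 inferInstance
  refine Algebra.Smooth.of_formallySmooth_fiber fun I _ => ?_
  let k := I.ResidueField
  haveI : Algebra.FiniteType k (k ⊗[A] B) := inferInstance
  haveI : Algebra.FinitePresentation k (k ⊗[A] B) := inferInstance
  haveI : IsLocalization (⊥ : Submonoid (k ⊗[A] B)) (k ⊗[A] B) := IsLocalization.self bot_le
  refine Algebra.smoothLocus_eq_univ_iff.mp (Set.eq_univ_iff_forall.mpr fun q => ?_)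
  exact isSmoothAt_of_diag_field k (k ⊗[A] B) (k ⊗[A] B) ⊥ (td_lmul_baseChange A k B h) q.asIdeal

theorem isSmoothAt_of_diag_local {A B₀ B : Type u} [CommRing A] [CommRing B₀] [CommRing B] [Algebra A B₀]
    [Algebra A B] [Algebra B₀ B] [IsScalarTower A B₀ B] [IsNoetherianRing A] [IsLocalRing A] [IsLocalRing B]
    [IsLocalHom (algebraMap A B)] [Module.Flat A B] [Algebra.FiniteType A B₀] (M : Submonoid B₀) [IsLocalization M B]
    (h : PCMor.TD (Algebra.TensorProduct.lmul' A (S := B)).toRingHom) :
    Algebra.IsSmoothAt A ((IsLocalRing.maximalIdeal B).comap (algebraMap B₀ B)) := by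
  let k := IsLocalRing.ResidueField A
  haveI : Algebra.FinitePresentation A B₀ := Algebra.FinitePresentation.of_finiteType.1 inferInstance
  let φ : (k ⊗[A] B₀) →ₐ[k] (k ⊗[A] B) :=
    Algebra.TensorProduct.map (AlgHom.id k k) (IsScalarTower.toAlgHom A B₀ B)
  letI : Algebra (k ⊗[A] B₀) (k ⊗[A] B) := φ.toRingHom.toAlgebra
  haveI : IsScalarTower k (k ⊗[A] B₀) (k ⊗[A] B) := IsScalarTower.of_algebraMap_eq' φ.comp_algebraMap.symm
  let N := M.map (Algebra.TensorProduct.includeRight (R := A) (A := k))
  haveI : IsLocalization N (k ⊗[A] B) :=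
    IsLocalization.tensorProduct_tensorProduct_right A k M B (RingHom.ext fun x => by
      show φ ((1 : k) ⊗ₜ[A] x) = (1 : k) ⊗ₜ[A] algebraMap B₀ B x
      simp [φ])
  have hs : Function.Surjective (Algebra.TensorProduct.includeRight : B →ₐ[A] k ⊗[A] B) := by
    intro z
    induction z using TensorProduct.induction_on with
    | zero => exact ⟨0, map_zero _⟩
    | tmul y b =>
      obtain ⟨a, rfl⟩ := IsLocalRing.residue_surjective y
      refine ⟨algebraMap A B a * b, ?_⟩
      show (1 : k) ⊗ₜ[A] (algebraMap A B a * b) = _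
      rw [← Algebra.smul_def, TensorProduct.tmul_smul, TensorProduct.smul_tmul', Algebra.smul_def, mul_one]
      rfl
    | add z w hz hw =>
      obtain ⟨b, rfl⟩ := hz
      obtain ⟨b', rfl⟩ := hw
      exact ⟨b + b', map_add _ _ _⟩
  haveI : Module.FaithfullyFlat A B := Module.FaithfullyFlat.of_flat_of_isLocalHom
  haveI : Nontrivial (k ⊗[A] B) := (TensorProduct.comm A B k).toEquiv.nontrivial_congr.mp inferInstance
  haveI : IsLocalRing (k ⊗[A] B) := IsLocalRing.of_surjective' Algebra.TensorProduct.includeRight.toRingHom hs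
  have h1 := isSmoothAt_of_diag_field k (k ⊗[A] B₀) (k ⊗[A] B) N (td_lmul_baseChange A k B h)
    (IsLocalRing.maximalIdeal (k ⊗[A] B))
  let Q := (IsLocalRing.maximalIdeal (k ⊗[A] B)).comap (algebraMap (k ⊗[A] B₀) (k ⊗[A] B))
  haveI : IsLocalization (IsLocalRing.maximalIdeal (k ⊗[A] B)).primeCompl (k ⊗[A] B) :=
    IsLocalization.self fun x hx => IsLocalRing.notMem_maximalIdeal.1 hx
  haveI : IsLocalization.AtPrime (k ⊗[A] B) Q :=
    IsLocalization.isLocalization_isLocalization_atPrime_isLocalization N (k ⊗[A] B)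
      (IsLocalRing.maximalIdeal (k ⊗[A] B))
  haveI : Algebra.FormallySmooth k (k ⊗[A] B) := by
    haveI : Algebra.FormallySmooth k (Localization.AtPrime Q) := h1
    exact Algebra.FormallySmooth.of_equiv
      ((IsLocalization.algEquiv Q.primeCompl (Localization.AtPrime Q) (k ⊗[A] B)).restrictScalars k)
  haveI : Algebra.FormallySmooth A B := Algebra.FormallySmooth.of_formallySmooth_residueField_tensor (P := B₀) M
  let q := (IsLocalRing.maximalIdeal B).comap (algebraMap B₀ B)
  haveI : IsLocalization (IsLocalRing.maximalIdeal B).primeCompl B :=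
    IsLocalization.self fun x hx => IsLocalRing.notMem_maximalIdeal.1 hx
  haveI : IsLocalization.AtPrime B q :=
    IsLocalization.isLocalization_isLocalization_atPrime_isLocalization M B (IsLocalRing.maximalIdeal B)
  exact Algebra.FormallySmooth.of_equiv
    ((IsLocalization.algEquiv q.primeCompl B (Localization.AtPrime q)).restrictScalars A)

end Groth.Agent.TorCI
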