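import Groth.Agent.TorCI.CIMap
import Groth.Agent.TorCI.RegularQuot
import Groth.Agent.TorCI.LciPair
import Groth.Agent.RegLoc.QuotientRegular
import Groth.Agent.SerreReg.Descent
import Mathlib.RingTheory.AdicCompletion.Exactness

/-!
# Independence of the factorization
-/

set_option autoImplicit false
set_option linter.style.haveILetI false
set_option backward.isDefEq.respectTransparency false
universe u

open IsLocalRing RingTheory.Sequence TensorProduct

namespace Groth.Agent.TorCI

/-- `K ∩ m S ≤ m K` when the quotient is flat -/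
theorem mem_mul_of_flat_quotient {A T : Type u} [CommRing A] [CommRing T] [IsLocalRing A] [IsLocalRing T]
    [Algebra A T] [IsLocalHom (algebraMap A T)] (K : Ideal T) [Module.Flat A (T ⧸ K)]
    {w : T} (hw : w ∈ K) (hwm : w ∈ (maximalIdeal A).map (algebraMap A T)) : w ∈ maximalIdeal T * K := by
  have h6 : (⟨w, hw⟩ : K) ∈ (maximalIdeal A • ⊤ : Submodule A K) := by
    refine AdicBasics.mem_smul_of_flat_quotient (R := A) (K := K) (M := T) (N := T ⧸ K)
      (K.subtype.restrictScalars A) ((K.mkQ).restrictScalars A) Subtype.val_injective (Submodule.mkQ_surjective K)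
      (fun y => by simp [Submodule.Quotient.mk_eq_zero, Ideal.Quotient.eq_zero_iff_mem]) (maximalIdeal A) _ ?_
    rw [Ideal.smul_top_eq_map, Submodule.restrictScalars_mem]
    exact hwm
  refine Submodule.smul_induction_on (p := fun (y : K) => (y : T) ∈ maximalIdeal T * K) h6 (fun a ha y _ => ?_)
    (fun y y' hy hy' => add_mem hy hy')
  show ((a • y : K) : T) ∈ _
  rw [Submodule.coe_smul_of_tower, ← algebraMap_smul T a (y : T)]
  exact Ideal.mul_mem_mul (map_nonunit (algebraMap A T) a ha) y.2

/-- two steps of good factorizations -/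
theorem regular_ker_iff_comp {A T S B : Type u} [CommRing A] [CommRing T] [CommRing S] [CommRing B] [Nontrivial B]
    [IsNoetherianRing T] [IsNoetherianRing S] [IsLocalRing A] [IsLocalRing T] [IsLocalRing S]
    [Algebra A T] [Algebra A S] [IsLocalHom (algebraMap A T)]
    [Module.Flat A T] [Module.Flat A S] [IsRegularLocalRing (T ⧸ (maximalIdeal A).map (algebraMap A T))]
    [IsRegularLocalRing (S ⧸ (maximalIdeal A).map (algebraMap A S))]
    (h : T →ₐ[A] S) (hh : Function.Surjective h) (g : S →+* B) :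
    (∃ rs : List T, Ideal.ofList rs = RingHom.ker (g.comp h.toRingHom) ∧ IsRegular T rs) ↔
      ∃ rs : List S, Ideal.ofList rs = RingHom.ker g ∧ IsRegular S rs := by
  let K := RingHom.ker h.toRingHom
  let L := RingHom.ker (g.comp h.toRingHom)
  let mT := (maximalIdeal A).map (algebraMap A T)
  let mS := (maximalIdeal A).map (algebraMap A S)
  have hKL : K ≤ L := fun x hx => by
    show g (h.toRingHom x) = 0
    rw [show h.toRingHom x = 0 from hx, map_zero]
  have hK : K ≠ ⊤ := RingHom.ker_ne_top _
  have hL : L ≠ ⊤ := RingHom.ker_ne_top _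
  haveI : Module.Flat A (T ⧸ K) :=
    Module.Flat.of_linearEquiv (Ideal.quotientKerAlgEquivOfSurjective hh).toLinearEquiv
  -- the fibres
  have hmap : mT.map h.toRingHom = mS := by
    rw [Ideal.map_map]
    exact congrArg (fun f => (maximalIdeal A).map f) h.comp_algebraMap
  let σ : T ⧸ mT →+* S ⧸ mS := Ideal.quotientMap mS h.toRingHom (Ideal.map_le_iff_le_comap.1 hmap.le)
  have hσs : Function.Surjective σ := Ideal.quotientMap_surjective hh
  have hσk : RingHom.ker σ = K.map (Ideal.Quotient.mk mT) := by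
    refine Ideal.comap_injective_of_surjective _ Ideal.Quotient.mk_surjective ?_
    rw [RingHom.comap_ker, Ideal.comap_map_of_surjective _ Ideal.Quotient.mk_surjective, ← RingHom.ker_eq_comap_bot,
      Ideal.mk_ker,
      show σ.comp (Ideal.Quotient.mk mT) = (Ideal.Quotient.mk mS).comp h.toRingHom from RingHom.ext fun _ => rfl,
      ← RingHom.comap_ker, Ideal.mk_ker, ← hmap, Ideal.comap_map_of_surjective h.toRingHom hh,
      ← RingHom.ker_eq_comap_bot, sup_comm]
  let n := RingHom.ker σ
  let en : ((T ⧸ mT) ⧸ n) ≃+* S ⧸ mS := RingHom.quotientKerEquivOfSurjective hσs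
  haveI : IsRegularLocalRing ((T ⧸ mT) ⧸ n) := IsRegularLocalRing.of_ringEquiv en.symm
  haveI := SerreReg.isRegularRing_of_isRegularLocalRing ((T ⧸ mT) ⧸ n)
  have hinj : ∀ x ∈ K, x ∈ maximalIdeal T * L → x ∈ maximalIdeal T * K := by
    intro x hxK hxL
    haveI : IsLocalHom (Ideal.Quotient.mk mT) := IsLocalHom.of_surjective _ Ideal.Quotient.mk_surjective
    have hm := SyntLib.map_maximalIdeal_of_surjective (Ideal.Quotient.mk mT) Ideal.Quotient.mk_surjective
    have h1 : Ideal.Quotient.mk mT x ∈ n ⊓ maximalIdeal (T ⧸ mT) ^ 2 := by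
      refine ⟨hσk.ge (Ideal.mem_map_of_mem _ hxK), ?_⟩
      rw [← hm, ← Ideal.map_pow, pow_two]
      exact Ideal.mem_map_of_mem _ (Ideal.mul_mono_right (le_maximalIdeal hL) hxL)
    have h2 := RegLoc.inf_sq_le_mul_of_regular_quotient n (RingHom.ker_ne_top σ) h1
    rw [← hm, show n = K.map (Ideal.Quotient.mk mT) from hσk, ← Ideal.map_mul] at h2
    obtain ⟨y, hy, hyx⟩ := (Ideal.mem_map_iff_of_surjective _ Ideal.Quotient.mk_surjective).1 h2
    have h3 : x - y ∈ maximalIdeal T * K :=
      mem_mul_of_flat_quotient K (sub_mem hxK (Ideal.mul_le_right hy)) (Ideal.Quotient.eq.1 hyx.symm)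
    rw [← add_sub_cancel y x]
    exact add_mem hy h3
  let eK : (T ⧸ K) ≃+* S := RingHom.quotientKerEquivOfSurjective (f := h.toRingHom) hh
  constructor
  · intro hJ
    obtain ⟨-, rs', hrs', hreg'⟩ := exists_regular_of_inj K L hKL hL hinj hJ
    refine ⟨rs'.map eK, ?_, isRegular_map_ringEquiv eK hreg'⟩
    rw [show rs'.map eK = rs'.map eK.toRingHom from rfl, ← Ideal.map_ofList, hrs', Ideal.map_map]
    show (RingHom.ker (g.comp h.toRingHom)).map h.toRingHom = _
    rw [← RingHom.comap_ker, Ideal.map_comap_of_surjective h.toRingHom hh]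
  · rintro ⟨gs, hgs, hgreg⟩
    obtain ⟨ys, hysreg, hys⟩ := (isCI_iff_regular σ hσs).1 isCI_of_regularLocal
    obtain ⟨fs, hfs, hfreg⟩ := exists_regular_lift (A := A) K hK ys (by rw [← hys, hσk]) hysreg
    obtain ⟨ts, hts, htk⟩ := exists_regular_comp h.toRingHom hh g fs hfreg hfs.symm gs hgreg.toIsWeaklyRegular hgs.symm
    exact ⟨ts, htk.symm, hts⟩

/-- passing to the completion of the middle ring -/
theorem exists_completed_factorization {A B S : Type u} [CommRing A] [CommRing B] [CommRing S] [IsNoetherianRing A]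
    [IsNoetherianRing B] [IsNoetherianRing S] [IsLocalRing A] [IsLocalRing B] [IsLocalRing S]
    [IsAdicComplete (maximalIdeal B) B] [Algebra A B] [Algebra A S] [Module.Flat A S]
    [IsRegularLocalRing (S ⧸ (maximalIdeal A).map (algebraMap A S))]
    (g : S →ₐ[A] B) (hg : Function.Surjective g) :
    ∃ (S' : Type u) (_ : CommRing S') (_ : IsNoetherianRing S') (_ : IsLocalRing S')
      (_ : IsAdicComplete (maximalIdeal S') S') (_ : Algebra A S') (_ : Module.Flat A S')
      (_ : IsRegularLocalRing (S' ⧸ (maximalIdeal A).map (algebraMap A S'))) (g' : S' →ₐ[A] B),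
      Function.Surjective g' ∧
        ((∃ rs : List S, Ideal.ofList rs = RingHom.ker g ∧ IsRegular S rs) ↔
          ∃ rs : List S', Ideal.ofList rs = RingHom.ker g' ∧ IsRegular S' rs) := by
  let S' := AdicCompletion (maximalIdeal S) S
  let B' := AdicCompletion (maximalIdeal B) B
  obtain ⟨ψ, hψ, hψc, hψk⟩ := FlatDepth.exists_cpl_quotient g.toRingHom hg
  have hb : Function.Bijective (algebraMap B B') := AdicCompletion.of_bijective (I := maximalIdeal B) (M := B)
  let eB : B ≃+* B' := RingEquiv.ofBijective (algebraMap B B') hb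
  haveI : Module.Flat S S' := AdicCompletion.flat_of_isNoetherian _
  haveI : Module.Flat A S' := Module.Flat.trans A S S'
  haveI : Module.FaithfullyFlat S S' := Module.FaithfullyFlat.of_flat_of_isLocalHom
  let mS := (maximalIdeal A).map (algebraMap A S)
  obtain ⟨θ, hθ, -, hθk⟩ := FlatDepth.exists_cpl_quotient (Ideal.Quotient.mk mS) Ideal.Quotient.mk_surjective
  rw [Ideal.mk_ker, Ideal.map_map, ← IsScalarTower.algebraMap_eq] at hθk
  haveI : IsRegularLocalRing (S' ⧸ (maximalIdeal A).map (algebraMap A S')) := by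
    haveI : IsRegularLocalRing (AdicCompletion (maximalIdeal (S ⧸ mS)) (S ⧸ mS)) :=
      (AdicBasics.isRegularLocalRing_completion_iff _).1 inferInstance
    exact IsRegularLocalRing.of_ringEquiv
      ((Ideal.quotEquivOfEq hθk.symm).trans (RingHom.quotientKerEquivOfSurjective hθ)).symm
  let g' : S' →ₐ[A] B :=
    { eB.symm.toRingHom.comp ψ with
      commutes' := fun a => by
        show eB.symm (ψ (algebraMap A S' a)) = algebraMap A B a
        rw [IsScalarTower.algebraMap_apply A S S', ← RingHom.comp_apply ψ, hψc, RingHom.comp_apply,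
          eB.symm_apply_eq]
        exact congrArg (algebraMap B B') (g.commutes a) }
  have hker : RingHom.ker g' = (RingHom.ker g).map (algebraMap S S') := by
    show RingHom.ker (eB.symm.toRingHom.comp ψ) = _
    rw [← RingHom.comap_ker, (RingHom.injective_iff_ker_eq_bot eB.symm.toRingHom).1 eB.symm.injective,
      ← RingHom.ker_eq_comap_bot, hψk]
    rfl
  refine ⟨S', inferInstance, inferInstance, inferInstance, inferInstance, inferInstance, inferInstance,
    inferInstance, g', eB.symm.surjective.comp hψ, ⟨?_, ?_⟩⟩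
  · rintro ⟨rs, hrs, hreg⟩
    have hk : Ideal.ofList (rs.map (algebraMap S S')) = RingHom.ker g' := by rw [hker, ← hrs, Ideal.map_ofList]
    exact ⟨_, hk, (IsLocalRing.isRegular_iff_isWeaklyRegular_of_subset_maximalIdeal fun x hx =>
      le_maximalIdeal (RingHom.ker_ne_top g') (hk.le (Ideal.subset_span hx))).2 hreg.toIsWeaklyRegular.of_flat⟩
  · rintro ⟨rs, hrs, hreg⟩
    exact regular_of_flat_local _ (RingHom.ker_ne_top g) ⟨rs, hrs.trans hker, hreg⟩

theorem isNoetherian_of_surjective_algebraMap (C S : Type u) [CommRing C] [CommRing S] [Algebra C S]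
    [IsNoetherianRing S] (h : Function.Surjective (algebraMap C S)) : IsNoetherian C S := by
  have hspan : ∀ (N : Submodule C S) (x : S), x ∈ Ideal.span (N : Set S) ↔ x ∈ N := fun N x => by
    refine ⟨fun hx => ?_, fun hx => Ideal.subset_span hx⟩
    refine Submodule.span_induction (fun y hy => hy) (zero_mem N) (fun _ _ _ _ => add_mem) (fun s y _ hy => ?_) hx
    obtain ⟨c, rfl⟩ := h s
    rw [algebraMap_smul]
    exact N.smul_mem c hy
  let c : Submodule C S ↪o Ideal S := OrderEmbedding.ofMapLEIff (fun N => Ideal.span (N : Set S)) fun N N' =>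
    ⟨fun hle x hx => (hspan N' x).1 (hle ((hspan N x).2 hx)), fun hle => Ideal.span_mono hle⟩
  rw [isNoetherian_iff']
  exact c.wellFoundedGT

theorem isAdicComplete_prod {C M N : Type u} [CommRing C] (I : Ideal C) [AddCommGroup M] [AddCommGroup N]
    [Module C M] [Module C N] [IsAdicComplete I M] [IsAdicComplete I N] : IsAdicComplete I (M × N) := by
  have hfst : ∀ {n : ℕ} {x y : M × N}, x ≡ y [SMOD (I ^ n • ⊤ : Submodule C (M × N))] →
      x.1 ≡ y.1 [SMOD (I ^ n • ⊤ : Submodule C M)] ∧ x.2 ≡ y.2 [SMOD (I ^ n • ⊤ : Submodule C N)] := fun {n x y} h => by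
    rw [SModEq.sub_mem] at h ⊢
    rw [SModEq.sub_mem]
    refine Submodule.smul_induction_on (p := fun z : M × N => z.1 ∈ (I ^ n • ⊤ : Submodule C M) ∧ z.2 ∈ (I ^ n • ⊤ : Submodule C N)) h (fun a ha z _ => ?_) (fun z z' hz hz' => ?_)
    · exact ⟨Submodule.smul_mem_smul ha (Submodule.mem_top (x := z.1)), Submodule.smul_mem_smul ha (Submodule.mem_top (x := z.2))⟩
    · exact ⟨add_mem hz.1 hz'.1, add_mem hz.2 hz'.2⟩
  refine { haus' := fun x hx => Prod.ext ?_ ?_, prec' := fun f hf => ?_ }
  · exact IsHausdorff.haus' (I := I) x.1 fun n => (hfst (hx n)).1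
  · exact IsHausdorff.haus' (I := I) x.2 fun n => (hfst (hx n)).2
  · obtain ⟨L₁, h₁⟩ := IsPrecomplete.prec' (I := I) (fun n => (f n).1) (fun h => (hfst (hf h)).1)
    obtain ⟨L₂, h₂⟩ := IsPrecomplete.prec' (I := I) (fun n => (f n).2) (fun h => (hfst (hf h)).2)
    refine ⟨(L₁, L₂), fun n => SModEq.sub_mem.2 ?_⟩
    have e1 := Submodule.mem_map_of_mem (f := LinearMap.inl C M N) (SModEq.sub_mem.1 (h₁ n))
    have e2 := Submodule.mem_map_of_mem (f := LinearMap.inr C M N) (SModEq.sub_mem.1 (h₂ n))
    rw [Submodule.map_smul''] at e1 e2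
    have := add_mem (Submodule.smul_mono le_rfl le_top e1) (Submodule.smul_mono le_rfl le_top e2)
    convert this using 1
    ext <;> simp

theorem isAdicComplete_of_algebraMap {C S : Type u} [CommRing C] [CommRing S] [IsLocalRing C] [IsLocalRing S]
    [Algebra C S] [IsAdicComplete (maximalIdeal S) S] (h : Function.Surjective (algebraMap C S)) :
    IsAdicComplete (maximalIdeal C) S := by
  haveI : IsLocalHom (algebraMap C S) := IsLocalHom.of_surjective _ h
  rw [← IsAdicComplete.map_algebraMap_iff (S := S), SyntLib.map_maximalIdeal_of_surjective _ h]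
  infer_instance

/-- the fibre product of two complete local rings over a common quotient -/
theorem exists_fibreProduct {A B S S' : Type u} [CommRing A] [CommRing B] [CommRing S] [CommRing S']
    [IsNoetherianRing B] [IsNoetherianRing S] [IsNoetherianRing S'] [IsLocalRing B] [IsLocalRing S] [IsLocalRing S']
    [IsAdicComplete (maximalIdeal B) B] [IsAdicComplete (maximalIdeal S) S] [IsAdicComplete (maximalIdeal S') S']
    [Algebra A B] [Algebra A S] [Algebra A S'] (g : S →ₐ[A] B) (g' : S' →ₐ[A] B) (hg : Function.Surjective g)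
    (hg' : Function.Surjective g') :
    ∃ (C : Type u) (_ : CommRing C) (_ : IsNoetherianRing C) (_ : IsLocalRing C)
      (_ : IsAdicComplete (maximalIdeal C) C) (_ : Algebra A C) (p : C →ₐ[A] S) (p' : C →ₐ[A] S'),
      Function.Surjective p ∧ Function.Surjective p' ∧ g.comp p = g'.comp p' := by
  let C := AlgHom.equalizer (g.comp (AlgHom.fst A S S')) (g'.comp (AlgHom.snd A S S'))
  let p : C →ₐ[A] S := (AlgHom.fst A S S').comp C.val
  let p' : C →ₐ[A] S' := (AlgHom.snd A S S').comp C.val
  have hp : Function.Surjective p := fun s => by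
    obtain ⟨s', hs'⟩ := hg' (g s)
    exact ⟨⟨(s, s'), hs'.symm⟩, rfl⟩
  have hp' : Function.Surjective p' := fun s' => by
    obtain ⟨s, hs⟩ := hg (g' s')
    exact ⟨⟨(s, s'), hs⟩, rfl⟩
  haveI : IsLocalHom g.toRingHom := IsLocalHom.of_surjective _ hg
  haveI : IsLocalHom g'.toRingHom := IsLocalHom.of_surjective _ hg'
  have hunit : ∀ c : C, IsUnit (p c) → IsUnit c := by
    intro c hc
    have hc' : IsUnit (p' c) := by
      refine isUnit_of_map_unit g'.toRingHom _ ?_
      show IsUnit (g' c.1.2)
      rw [show g' c.1.2 = g c.1.1 from c.2.symm]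
      exact hc.map g
    obtain ⟨u, hu⟩ := hc
    obtain ⟨u', hu'⟩ := hc'
    have hinv : ((↑u⁻¹ : S), (↑u'⁻¹ : S')) ∈ C := by
      show g (↑u⁻¹ : S) = g' (↑u'⁻¹ : S')
      have h1 : g c.1.1 = g' c.1.2 := c.2
      refine left_inv_eq_right_inv (a := g c.1.1) ?_ ?_
      · rw [← map_mul, show c.1.1 = (u : S) from hu.symm, u.inv_mul, map_one]
      · rw [h1, ← map_mul, show c.1.2 = (u' : S') from hu'.symm, u'.mul_inv, map_one]
    refine IsUnit.of_mul_eq_one ⟨_, hinv⟩ (Subtype.ext (Prod.ext ?_ ?_))
    · show c.1.1 * ↑u⁻¹ = 1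
      rw [show c.1.1 = (u : S) from hu.symm, u.mul_inv]
    · show c.1.2 * ↑u'⁻¹ = 1
      rw [show c.1.2 = (u' : S') from hu'.symm, u'.mul_inv]
  haveI : Nontrivial C := p.toRingHom.domain_nontrivial
  haveI : IsLocalHom p.toRingHom := ⟨fun c hc => hunit c hc⟩
  haveI : IsLocalRing C := RingHom.domain_isLocalRing p.toRingHom
  letI := p.toRingHom.toAlgebra
  letI := p'.toRingHom.toAlgebra
  letI : Algebra C B := (g.comp p).toRingHom.toAlgebra
  haveI : IsNoetherian C S := isNoetherian_of_surjective_algebraMap C S hp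
  haveI : IsNoetherian C S' := isNoetherian_of_surjective_algebraMap C S' hp'
  haveI : IsNoetherian C B := isNoetherian_of_surjective_algebraMap C B (hg.comp hp)
  haveI : IsAdicComplete (maximalIdeal C) S := isAdicComplete_of_algebraMap hp
  haveI : IsAdicComplete (maximalIdeal C) S' := isAdicComplete_of_algebraMap hp'
  haveI : IsAdicComplete (maximalIdeal C) B := isAdicComplete_of_algebraMap (hg.comp hp)
  haveI : IsAdicComplete (maximalIdeal C) (S × S') := isAdicComplete_prod _
  let ι : C →ₗ[C] S × S' :=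
    { toFun := fun c => c.1
      map_add' := fun _ _ => rfl
      map_smul' := fun _ _ => rfl }
  have hι : Function.Injective ι := Subtype.val_injective
  haveI : IsNoetherian C (S × S') := inferInstance
  haveI : IsNoetherianRing C := isNoetherian_of_injective ι hι
  let δ : S × S' →ₗ[C] B :=
    { toFun := fun x => g x.1 - g' x.2
      map_add' := fun x y => by simp only [Prod.fst_add, Prod.snd_add, map_add]; abel
      map_smul' := fun c x => by
        show g (p c * x.1) - g' (p' c * x.2) = g (p c) * (g x.1 - g' x.2)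
        rw [map_mul, map_mul, show g' (p' c) = g (p c) from c.2.symm, mul_sub] }
  have hex : Function.Exact ι δ := fun x => by
    show g x.1 - g' x.2 = 0 ↔ _
    rw [sub_eq_zero]
    exact ⟨fun h => ⟨⟨x, h⟩, rfl⟩, fun ⟨c, hc⟩ => hc ▸ c.2⟩
  have hδ : Function.Surjective δ := fun b => by
    obtain ⟨s, rfl⟩ := hg b
    exact ⟨(s, 0), by show g s - g' 0 = g s; simp⟩
  haveI : IsAdicComplete (maximalIdeal C) C := by
    let I := maximalIdeal C
    refine AdicCompletion.of_bijective_iff.1 ⟨fun x y hxy => hι ?_, fun x => ?_⟩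
    · refine (AdicCompletion.of_bijective (I := I) (M := S × S')).1 ?_
      rw [← AdicCompletion.map_of, ← AdicCompletion.map_of, hxy]
    · obtain ⟨d, hd⟩ := (AdicCompletion.of_bijective (I := I) (M := S × S')).2 (AdicCompletion.map I ι x)
      have h0 : δ d = 0 := by
        refine (AdicCompletion.of_bijective (I := I) (M := B)).1 ?_
        rw [← AdicCompletion.map_of, hd, map_zero]
        exact ((AdicCompletion.map_exact hι hex hδ) _).2 ⟨x, rfl⟩
      obtain ⟨c, rfl⟩ := (hex d).1 h0
      refine ⟨c, AdicCompletion.map_injective I hι ?_⟩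
      rw [AdicCompletion.map_of, hd]
  exact ⟨C, inferInstance, inferInstance, inferInstance, inferInstance, inferInstance, p, p', hp, hp',
    AlgHom.ext fun c => c.2⟩

/-- independence of the factorization for complete middle rings -/
theorem regular_ker_iff_complete {A B S S' : Type u} [CommRing A] [CommRing B] [CommRing S] [CommRing S']
    [IsNoetherianRing A] [IsNoetherianRing B] [IsNoetherianRing S] [IsNoetherianRing S'] [IsLocalRing A]
    [IsLocalRing B] [IsLocalRing S] [IsLocalRing S'] [IsAdicComplete (maximalIdeal A) A]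
    [IsAdicComplete (maximalIdeal B) B] [IsAdicComplete (maximalIdeal S) S] [IsAdicComplete (maximalIdeal S') S']
    [Algebra A B] [Algebra A S] [Algebra A S'] [IsLocalHom (algebraMap A B)] [Module.Flat A S] [Module.Flat A S']
    [IsRegularLocalRing (S ⧸ (maximalIdeal A).map (algebraMap A S))]
    [IsRegularLocalRing (S' ⧸ (maximalIdeal A).map (algebraMap A S'))]
    (g : S →ₐ[A] B) (g' : S' →ₐ[A] B) (hg : Function.Surjective g) (hg' : Function.Surjective g') :
    (∃ rs : List S, Ideal.ofList rs = RingHom.ker g ∧ IsRegular S rs) ↔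
      ∃ rs : List S', Ideal.ofList rs = RingHom.ker g' ∧ IsRegular S' rs := by
  obtain ⟨C, _, _, _, _, _, p, p', hp, hp', hpp⟩ := exists_fibreProduct g g' hg hg'
  haveI : IsLocalHom (algebraMap A C) := ⟨fun a ha => isUnit_of_map_unit (algebraMap A B) a (by
    rw [← (g.comp p).commutes a]; exact ha.map (g.comp p))⟩
  obtain ⟨R, _, _, P, _, _, ρ, hρl, π, τ, hρf, hfib, hπ, hτ, hcomp, -⟩ := exists_good_cover (algebraMap A C)
  letI := ρ.toAlgebra
  haveI : IsLocalHom (algebraMap R P) := hρl
  haveI : Module.Flat R P := hρf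
  haveI : IsRegularLocalRing (P ⧸ (maximalIdeal R).map (algebraMap R P)) := hfib
  let I := RingHom.ker π
  let IS := I.map (algebraMap R P)
  let mP := (maximalIdeal R).map (algebraMap R P)
  have hI : I ≠ ⊤ := RingHom.ker_ne_top π
  have hIJ : IS ≤ RingHom.ker τ := Ideal.map_le_iff_le_comap.2 fun x hx => by
    show τ (algebraMap R P x) = 0
    rw [← RingHom.comp_apply, show algebraMap R P = ρ from rfl, hcomp, RingHom.comp_apply,
      show π x = 0 from hx, map_zero]
  let eA : (R ⧸ I) ≃+* A := RingHom.quotientKerEquivOfSurjective hπ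
  haveI : IsLocalHom π := IsLocalHom.of_surjective π hπ
  haveI : Nontrivial (P ⧸ IS) :=
    Ideal.Quotient.nontrivial_iff.2 (ne_top_of_le_ne_top (RingHom.ker_ne_top τ) hIJ)
  haveI : IsLocalRing (P ⧸ IS) := .of_surjective' (Ideal.Quotient.mk IS) Ideal.Quotient.mk_surjective
  haveI : Module.Flat (R ⧸ I) (P ⧸ IS) := flat_quotient_map I
  let f : A →+* P ⧸ IS := (algebraMap (R ⧸ I) (P ⧸ IS)).comp eA.symm.toRingHom
  have hf : f.Flat := RingHom.Flat.comp (RingHom.Flat.of_bijective eA.symm.bijective)
    (RingHom.flat_algebraMap_iff.2 inferInstance)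
  letI := f.toAlgebra
  haveI : Module.Flat A (P ⧸ IS) := hf
  have hfπ : f.comp π = (Ideal.Quotient.mk IS).comp (algebraMap R P) := RingHom.ext fun r => by
    show algebraMap (R ⧸ I) (P ⧸ IS) (eA.symm (eA (Ideal.Quotient.mk I r))) = _
    rw [eA.symm_apply_apply]
    rfl
  have hmS : (maximalIdeal A).map (algebraMap A (P ⧸ IS)) = mP.map (Ideal.Quotient.mk IS) := by
    rw [← SyntLib.map_maximalIdeal_of_surjective π hπ, Ideal.map_map, show algebraMap A (P ⧸ IS) = f from rfl, hfπ,
      ← Ideal.map_map]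
  haveI : IsRegularLocalRing ((P ⧸ IS) ⧸ (maximalIdeal A).map (algebraMap A (P ⧸ IS))) :=
    IsRegularLocalRing.of_ringEquiv
      ((Ideal.quotEquivOfEq hmS).trans (DoubleQuot.quotQuotEquivQuotOfLE (Ideal.map_mono (le_maximalIdeal hI)))).symm
  let q : (P ⧸ IS) →ₐ[A] C :=
    { Ideal.Quotient.lift IS τ hIJ with
      commutes' := fun a => by
        obtain ⟨r, rfl⟩ := hπ a
        show Ideal.Quotient.lift IS τ hIJ (f (π r)) = _
        rw [← RingHom.comp_apply f π, hfπ]
        exact RingHom.congr_fun hcomp r }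
  have hq : Function.Surjective q := fun c => by
    obtain ⟨x, rfl⟩ := hτ c
    exact ⟨Ideal.Quotient.mk IS x, rfl⟩
  haveI : IsLocalHom (algebraMap A (P ⧸ IS)) := ⟨fun a ha => isUnit_of_map_unit (algebraMap A C) a (by
    rw [← q.commutes a]; exact ha.map q)⟩
  refine ((regular_ker_iff_comp (p.comp q) (hp.comp hq) g.toRingHom).symm.trans ?_).trans
    (regular_ker_iff_comp (p'.comp q) (hp'.comp hq) g'.toRingHom)
  have heq : g.toRingHom.comp (p.comp q).toRingHom = g'.toRingHom.comp (p'.comp q).toRingHom :=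
    RingHom.ext fun x => AlgHom.congr_fun hpp (q x)
  rw [heq]

/-- Independence of the factorization. -/
theorem regular_ker_iff {A B S S' : Type u} [CommRing A] [CommRing B] [CommRing S] [CommRing S']
    [IsNoetherianRing A] [IsNoetherianRing B] [IsNoetherianRing S] [IsNoetherianRing S'] [IsLocalRing A]
    [IsLocalRing B] [IsLocalRing S] [IsLocalRing S'] [IsAdicComplete (maximalIdeal A) A]
    [IsAdicComplete (maximalIdeal B) B] [Algebra A B] [Algebra A S] [Algebra A S'] [IsLocalHom (algebraMap A B)]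
    [Module.Flat A S] [Module.Flat A S']
    [IsRegularLocalRing (S ⧸ (maximalIdeal A).map (algebraMap A S))]
    [IsRegularLocalRing (S' ⧸ (maximalIdeal A).map (algebraMap A S'))]
    (g : S →ₐ[A] B) (g' : S' →ₐ[A] B) (hg : Function.Surjective g) (hg' : Function.Surjective g') :
    (∃ rs : List S, Ideal.ofList rs = RingHom.ker g ∧ IsRegular S rs) ↔
      ∃ rs : List S', Ideal.ofList rs = RingHom.ker g' ∧ IsRegular S' rs := by
  obtain ⟨T, _, _, _, _, _, _, _, h, hh, hiff⟩ := exists_completed_factorization g hg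
  obtain ⟨T', _, _, _, _, _, _, _, h', hh', hiff'⟩ := exists_completed_factorization g' hg'
  rw [hiff, hiff']
  exact regular_ker_iff_complete h h' hh hh'

end Groth.Agent.TorCI
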