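import Groth.Agent.TorCI.Obstruction
import Groth.Agent.S6318
import Groth.Prelude.Def_DRing2
import Mathlib

/-!
Finite tor dimension forces `I / m I → J / m J` to be injective.
-/

set_option autoImplicit false
set_option linter.style.haveILetI false
set_option backward.isDefEq.respectTransparency false
universe u

namespace Groth.Agent.TorCI

open CategoryTheory Limits MonoidalCategory
open scoped TensorProduct

/-- lifting coordinates along a surjection -/
theorem exists_coord_lift {A R : Type u} [CommRing A] [CommRing R] (π : A →+* R) (hπ : Function.Surjective π)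
    {p q : ℕ} {P Q : Type u} [AddCommGroup P] [Module R P] [AddCommGroup Q] [Module R Q]
    (eP : (Fin p → R) ≃ₗ[R] P) (eQ : (Fin q → R) ≃ₗ[R] Q) (f : P →ₗ[R] Q) :
    ∃ D : (Fin p → A) →ₗ[A] (Fin q → A), ∀ v, eQ (fun j => π (D v j)) = f (eP fun i => π (v i)) := by
  classical
  choose c hc using fun (i : Fin p) (j : Fin q) => hπ (eQ.symm (f (eP (Pi.single i 1))) j)
  refine ⟨(Pi.basisFun A (Fin p)).constr A c, fun v => ?_⟩
  have h1 : (eP fun i => π (v i)) = ∑ i, π (v i) • eP (Pi.single i 1) := by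
    conv_lhs => rw [pi_eq_sum_univ' (fun i => π (v i))]
    rw [map_sum]
    exact Finset.sum_congr rfl fun i _ => by rw [← map_smul]
  rw [h1, map_sum, ← eQ.eq_symm_apply, map_sum]
  ext j
  rw [Finset.sum_apply, Module.Basis.constr_apply_fintype, Finset.sum_apply, map_sum]
  refine Finset.sum_congr rfl fun i _ => ?_
  rw [map_smul, map_smul, Pi.smul_apply, Pi.smul_apply, smul_eq_mul, map_mul, ← hc i j]
  simp [Pi.basisFun_equivFun]

/-- **`I ∩ m J ⊆ m I`** for finite tor dimension -/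
theorem mem_maximal_mul {A : Type u} [CommRing A] [IsNoetherianRing A] [IsLocalRing A] (I J : Ideal A) (hIJ : I ≤ J)
    (hJ : J ≠ ⊤) [Algebra (A ⧸ I) (A ⧸ J)] [IsScalarTower A (A ⧸ I) (A ⧸ J)] (N : ℕ)
    (hTor : ∀ p, N < p → Subsingleton (DRing.Tor (A ⧸ I) p (A ⧸ J)
      ((A ⧸ I) ⧸ (IsLocalRing.maximalIdeal A).map (Ideal.Quotient.mk I))))
    (x : A) (hx : x ∈ I) (hxm : x ∈ IsLocalRing.maximalIdeal A * J) : x ∈ IsLocalRing.maximalIdeal A * I := by
  classical
  by_contra hxmI
  let m := IsLocalRing.maximalIdeal A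
  -- a hyperplane
  obtain ⟨I', ⟨hI'1, hI'2, hxI'⟩, hI'max⟩ := set_has_maximal_iff_noetherian.2 ‹IsNoetherianRing A›
    {K : Ideal A | m * I ≤ K ∧ K ≤ I ∧ x ∉ K} ⟨m * I, le_rfl, Ideal.mul_le_right, hxmI⟩
  have hgen : ∀ y ∈ I, ∃ c, y - c * x ∈ I' := by
    intro y hy
    by_contra hc
    have hy' : y ∉ I' := fun h => hc ⟨0, by simpa using h⟩
    have hlt : I' < I' ⊔ Ideal.span {y} :=
      lt_of_le_of_ne le_sup_left fun h => hy' (h.ge (Submodule.mem_sup_right (Ideal.mem_span_singleton_self y)))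
    by_cases hxK : x ∈ I' ⊔ Ideal.span {y}
    · obtain ⟨i, hi, z, hz, hxz⟩ := Submodule.mem_sup.1 hxK
      obtain ⟨r, rfl⟩ := Ideal.mem_span_singleton'.1 hz
      rcases IsLocalRing.isUnit_or_isUnit_one_sub_self r with hr | hr
      · obtain ⟨u, rfl⟩ := hr
        refine hc ⟨(↑u⁻¹ : A), ?_⟩
        have : y - ↑u⁻¹ * x = -(↑u⁻¹ * i) := by
          rw [← hxz, mul_add, ← mul_assoc, Units.inv_mul, one_mul]
          ring
        rw [this]
        exact I'.neg_mem (Ideal.mul_mem_left I' _ hi)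
      · refine hxI' ?_
        rw [← hxz]
        refine I'.add_mem hi ?_
        by_cases hrm : IsUnit r
        · obtain ⟨u, rfl⟩ := hrm
          exact absurd ⟨(↑u⁻¹ : A), by
            have : y - ↑u⁻¹ * x = -(↑u⁻¹ * i) := by
              rw [← hxz, mul_add, ← mul_assoc, Units.inv_mul, one_mul]
              ring
            rw [this]
            exact I'.neg_mem (Ideal.mul_mem_left I' _ hi)⟩ hc
        · exact hI'1 (Ideal.mul_mem_mul ((IsLocalRing.mem_maximalIdeal r).2 hrm) hy)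
    · exact hI'max _ ⟨hI'1.trans le_sup_left, sup_le hI'2 (by rwa [Ideal.span_singleton_le_iff_mem]), hxK⟩ hlt
  -- the small extension
  let A' := A ⧸ I'
  let π : A' →+* A ⧸ I := Ideal.Quotient.factor hI'2
  have hπ : Function.Surjective π := Ideal.Quotient.factor_surjective hI'2
  let q : A →+* A' := Ideal.Quotient.mk I'
  let x' : A' := q x
  let m' : Ideal A' := m.map q
  let J' : Ideal A' := J.map q
  have hkerπ : ∀ c, π c = 0 → ∃ t, c = x' * t := fun c hc => by
    obtain ⟨y, rfl⟩ := Ideal.Quotient.mk_surjective c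
    have hy : y ∈ I := Ideal.Quotient.eq_zero_iff_mem.1 hc
    obtain ⟨t, ht⟩ := hgen y hy
    refine ⟨q t, ?_⟩
    rw [← map_mul, mul_comm x t]
    exact Ideal.Quotient.eq.2 ht
  have hπx : π x' = 0 := Ideal.Quotient.eq_zero_iff_mem.2 hx
  have hxm' : ∀ c ∈ m', x' * c = 0 := fun c hc => by
    obtain ⟨y, hy, rfl⟩ := (Ideal.mem_map_iff_of_surjective q Ideal.Quotient.mk_surjective).1 hc
    rw [← map_mul, mul_comm]
    exact Ideal.Quotient.eq_zero_iff_mem.2 (hI'1 (Ideal.mul_mem_mul hy hx))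
  have hann : ∀ c, x' * c = 0 → c ∈ m' := fun c hc => by
    obtain ⟨y, rfl⟩ := Ideal.Quotient.mk_surjective c
    rw [← map_mul] at hc
    refine Ideal.mem_map_of_mem q (((IsLocalRing.mem_maximalIdeal y).2 fun hu => ?_) : y ∈ m)
    obtain ⟨u, rfl⟩ := hu
    exact hxI' (by simpa using Ideal.mul_mem_right (↑u⁻¹ : A) I' (Ideal.Quotient.eq_zero_iff_mem.1 hc))
  have hJm : J ≤ m := IsLocalRing.le_maximalIdeal hJ
  have hdecomp : ∃ (r : ℕ) (a b : Fin r → A), (∀ i, a i ∈ m) ∧ (∀ i, b i ∈ J) ∧ ∑ i, b i * a i = x := by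
    refine Submodule.mul_induction_on hxm (fun a ha b hb => ⟨1, fun _ => a, fun _ => b, fun _ => ha, fun _ => hb, ?_⟩)
      fun y z hy hz => ?_
    · simp [mul_comm]
    · obtain ⟨r, a, b, ha, hb, hs⟩ := hy
      obtain ⟨r', a', b', ha', hb', hs'⟩ := hz
      refine ⟨r + r', Fin.append a a', Fin.append b b', fun i => ?_, fun i => ?_, ?_⟩
      · induction i using Fin.addCases with
        | left i => simpa using ha i
        | right i => simpa using ha' i
      · induction i using Fin.addCases with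
        | left i => simpa using hb i
        | right i => simpa using hb' i
      · simp [Fin.sum_univ_add, hs, hs']
  obtain ⟨r, a, b, ha, hb, hab⟩ := hdecomp
  -- the resolution
  let k := (A ⧸ I) ⧸ m.map (Ideal.Quotient.mk I)
  obtain ⟨P, hP⟩ := S6318.result (A ⧸ I) k
  haveI := fun n => (hP n).1
  haveI := fun n => (hP n).2
  let β : ℕ → ℕ := fun n => Fintype.card (Module.Free.ChooseBasisIndex (A ⧸ I) (P.complex.X n))
  let e : ∀ n, (Fin (β n) → A ⧸ I) ≃ₗ[A ⧸ I] P.complex.X n := fun n =>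
    ((Module.Free.chooseBasis (A ⧸ I) (P.complex.X n)).reindex (Fintype.equivFin _)).equivFun.symm
  let red : ∀ n, (Fin (β n) → A') → P.complex.X n := fun n v => e n fun i => π (v i)
  have red_add : ∀ n v w, red n (v + w) = red n v + red n w := fun n v w => by
    simp only [red, ← map_add]
    congr 1
    ext i
    simp
  have red_sub : ∀ n v w, red n (v - w) = red n v - red n w := fun n v w => by
    simp only [red, ← map_sub]
    congr 1
    ext i
    simp
  have red_smul : ∀ n c v, red n (c • v) = π c • red n v := fun n c v => by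
    simp only [red, ← map_smul]
    congr 1
    ext i
    simp
  have red_surj : ∀ n y, ∃ v, red n v = y := fun n y => by
    choose v hv using fun i => hπ ((e n).symm y i)
    exact ⟨v, by simp [red, hv]⟩
  have red_zero : ∀ n v, red n v = 0 → ∃ t, v = x' • t := fun n v hv => by
    have hv' : (fun i => π (v i)) = 0 := (e n).map_eq_zero_iff.1 hv
    choose t ht using fun i => hkerπ (v i) (congrFun hv' i)
    exact ⟨t, funext ht⟩
  have red_x : ∀ n v, red n (x' • v) = 0 := fun n v => by rw [red_smul, hπx, zero_smul]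
  choose D hD using fun n => exists_coord_lift π hπ (e (n + 1)) (e n) (P.complex.d (n + 1) n).hom
  have hred : ∀ n v, red n (D n v) = P.complex.d (n + 1) n (red (n + 1) v) := fun n v => hD n v
  let ε : P.complex.X 0 →ₗ[A ⧸ I] k := (P.π.f 0).hom
  have hεd : ∀ y, ε (P.complex.d 1 0 y) = 0 := fun y =>
    LinearMap.congr_fun (congrArg ModuleCat.Hom.hom P.complex_d_comp_π_f_zero) y
  have hεsurj : Function.Surjective ε := (ModuleCat.epi_iff_surjective (P.π.f 0)).1 inferInstance
  have hεex : ∀ y, ε y = 0 → ∃ z, P.complex.d 1 0 z = y := fun y hy =>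
    ((ShortComplex.ShortExact.moduleCat_exact_iff_function_exact _).1
      (ShortComplex.exact_of_g_is_cokernel (ShortComplex.mk _ _ P.complex_d_comp_π_f_zero)
        P.isColimitCokernelCofork) y).1 hy
  have hεm : ∀ c ∈ m', ∀ y, ε (π c • y) = 0 := fun c hc y => by
    obtain ⟨z, hz, rfl⟩ := (Ideal.mem_map_iff_of_surjective q Ideal.Quotient.mk_surjective).1 hc
    rw [map_smul]
    obtain ⟨w, hw⟩ := Ideal.Quotient.mk_surjective (ε y)
    rw [← hw]
    show Ideal.Quotient.mk _ (π (q z) * w) = 0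
    exact Ideal.Quotient.eq_zero_iff_mem.2 (Ideal.mul_mem_right _ _ (Ideal.mem_map_of_mem _ hz))
  have hεred : ∀ u ∈ m' • (⊤ : Submodule A' (Fin (β 0) → A')), ε (red 0 u) = 0 := fun u hu => by
    refine Submodule.smul_induction_on hu (fun c hc v _ => ?_) fun v w hv hw => ?_
    · rw [red_smul]
      exact hεm c hc _
    · rw [red_add, map_add, hv, hw, add_zero]
  obtain ⟨y₁, hy₁⟩ := hεsurj 1
  obtain ⟨f₀, hf₀⟩ := red_surj 0 y₁
  refine false_of_small_extension (fun n => Fin (β n) → A') D m' J' (fun i => q (a i)) (fun i => q (b i))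
    (fun i => Ideal.mem_map_of_mem q (ha i)) (fun i => Ideal.mem_map_of_mem q (hb i)) (Ideal.map_mono hJm)
    (x := x') (by simp [x', ← map_mul, ← map_sum, hab]) hxm' hann (fun n v => ?_) (fun n v hv => ?_) f₀ ?_ (fun v hv => ?_)
    N (fun n hn v hv => ?_)
  · obtain ⟨t, ht⟩ := red_zero n (D n (D (n + 1) v)) (by
      rw [hred, hred]
      exact LinearMap.congr_fun (congrArg ModuleCat.Hom.hom (P.complex.d_comp_d (n + 2) (n + 1) n)) _)
    exact ⟨t, ht⟩
  · obtain ⟨t, ht⟩ := hv
    have h0 : P.complex.d (n + 1) n (red (n + 1) v) = 0 := by rw [← hred, ht, red_x]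
    obtain ⟨z, hz⟩ := ((ShortComplex.ShortExact.moduleCat_exact_iff_function_exact _).1 (P.exact_succ n)
      (red (n + 1) v)).1 h0
    obtain ⟨w, rfl⟩ := red_surj (n + 2) z
    obtain ⟨t', ht'⟩ := red_zero (n + 1) (v - D (n + 1) w) (by
      rw [red_sub, hred, sub_eq_zero]
      exact hz.symm)
    exact ⟨w, t', by rw [← ht', add_sub_cancel]⟩
  · intro hmem
    obtain ⟨_, ⟨w, rfl⟩, u, hu, huw⟩ := Submodule.mem_sup.1 hmem
    have h1 : ε (red 0 f₀) = 1 := by rw [hf₀, hy₁]
    rw [← huw, red_add, map_add, hred, hεd, hεred u hu, add_zero] at h1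
    have h2 : (1 : A ⧸ I) ∈ m.map (Ideal.Quotient.mk I) := Ideal.Quotient.eq_zero_iff_mem.1 h1.symm
    rw [Ideal.mem_map_iff_of_surjective _ Ideal.Quotient.mk_surjective] at h2
    obtain ⟨z, hz, hz1⟩ := h2
    have h3 : z - 1 ∈ I := Ideal.Quotient.eq.1 (hz1.trans (map_one _).symm)
    exact (IsLocalRing.maximalIdeal.isMaximal A).ne_top ((Ideal.eq_top_iff_one _).2
      (by
      have h4 := m.sub_mem hz (hJm (hIJ h3))
      rwa [sub_sub_cancel] at h4))
  · obtain ⟨z, hz⟩ := hεex _ (hεred v hv)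
    obtain ⟨w, rfl⟩ := red_surj 1 z
    obtain ⟨t', ht'⟩ := red_zero 0 (v - D 0 w) (by rw [red_sub, hred, hz, sub_self])
    exact ⟨w, t', by rw [← ht', add_sub_cancel]⟩
  · -- vanishing of Tor
    haveI := hTor (n + 1) (by lia)
    have hz : IsZero (((CategoryTheory.Tor (ModuleCat.{u} (A ⧸ I)) (n + 1)).obj (ModuleCat.of (A ⧸ I) (A ⧸ J))).obj
        (ModuleCat.of (A ⧸ I) k)) := ModuleCat.isZero_of_subsingleton _
    have hexT := (ShortComplex.ShortExact.moduleCat_exact_iff_function_exact _).1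
      ((HomologicalComplex.exactAt_iff' _ (n + 2) (n + 1) n (by simp) (by simp)).1
        ((HomologicalComplex.exactAt_iff_isZero_homology _ _).2
          (hz.of_iso (P.isoLeftDerivedObj (tensorLeft (ModuleCat.of (A ⧸ I) (A ⧸ J))) (n + 1)).symm)))
    have hJimg : ∀ c ∈ J', algebraMap (A ⧸ I) (A ⧸ J) (π c) = 0 := fun c hc => by
      obtain ⟨y, hy, rfl⟩ := (Ideal.mem_map_iff_of_surjective q Ideal.Quotient.mk_surjective).1 hc
      show algebraMap (A ⧸ I) (A ⧸ J) (algebraMap A (A ⧸ I) y) = 0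
      rw [← IsScalarTower.algebraMap_apply]
      exact Ideal.Quotient.eq_zero_iff_mem.2 hy
    have htens : ∀ k' u, u ∈ J' • (⊤ : Submodule A' (Fin (β k') → A')) →
        (1 : A ⧸ J) ⊗ₜ[A ⧸ I] red k' u = 0 := fun k' u hu => by
      refine Submodule.smul_induction_on hu (fun c hc w _ => ?_) fun p r' hp hr => ?_
      · rw [red_smul, TensorProduct.tmul_smul, TensorProduct.smul_tmul', Algebra.smul_def, hJimg c hc, zero_mul,
          TensorProduct.zero_tmul]
      · rw [red_add, TensorProduct.tmul_add, hp, hr, add_zero]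
    have h0 : LinearMap.lTensor (A ⧸ J) (P.complex.d (n + 1) n).hom ((1 : A ⧸ J) ⊗ₜ red (n + 1) v) = 0 := by
      rw [LinearMap.lTensor_tmul, ← hred]
      exact htens n _ hv
    obtain ⟨z, hz'⟩ := (hexT _).1 h0
    obtain ⟨y, hy⟩ : ∃ y, (1 : A ⧸ J) ⊗ₜ[A ⧸ I] y = z :=
      TensorProduct.mk_surjective (A ⧸ I) (P.complex.X (n + 2)) (A ⧸ J) (fun c => by
        obtain ⟨y, rfl⟩ := Ideal.Quotient.mk_surjective c
        exact ⟨algebraMap A (A ⧸ I) y, (IsScalarTower.algebraMap_apply A (A ⧸ I) (A ⧸ J) y).symm⟩) z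
    obtain ⟨w, rfl⟩ := red_surj (n + 2) y
    have h3 : (1 : A ⧸ J) ⊗ₜ[A ⧸ I] red (n + 1) (v - D (n + 1) w) = 0 := by
      rw [red_sub, TensorProduct.tmul_sub, hred, sub_eq_zero]
      rw [← hy] at hz'
      exact hz'.symm
    let u := v - D (n + 1) w
    have h4 : ∀ i, u i ∈ J' := fun i => by
      have h5 := congrArg (fun t => TensorProduct.rid (A ⧸ I) (A ⧸ J)
        (LinearMap.lTensor (A ⧸ J) ((LinearMap.proj i).comp (e (n + 1)).symm.toLinearMap) t)) h3
      simp only [LinearMap.lTensor_tmul, TensorProduct.rid_tmul, map_zero] at h5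
      rw [Algebra.smul_def, mul_one] at h5
      have h6 : ((LinearMap.proj i).comp (e (n + 1)).symm.toLinearMap : P.complex.X (n + 1) →ₗ[A ⧸ I] A ⧸ I)
          (red (n + 1) u) = π (u i) := by simp [red]
      rw [h6] at h5
      obtain ⟨y, hy'⟩ := Ideal.Quotient.mk_surjective (u i)
      rw [← hy'] at h5 ⊢
      refine Ideal.mem_map_of_mem q ?_
      have h7 : algebraMap (A ⧸ I) (A ⧸ J) (algebraMap A (A ⧸ I) y) = 0 := h5
      rw [← IsScalarTower.algebraMap_apply] at h7
      exact Ideal.Quotient.eq_zero_iff_mem.1 h7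
    have h8 : u ∈ J' • (⊤ : Submodule A' (Fin (β (n + 1)) → A')) := by
      rw [← (Pi.basisFun A' (Fin (β (n + 1)))).sum_repr u]
      exact Submodule.sum_mem _ fun i _ => Submodule.smul_mem_smul (by simpa using h4 i) Submodule.mem_top
    have h9 : v = D (n + 1) w + u := by simp [u]
    rw [h9]
    exact Submodule.add_mem_sup ⟨_, rfl⟩ h8

end Groth.Agent.TorCI
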