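import Groth.Agent.TorCI.CILoc
import Groth.Agent.TorCI.CIMap
import Groth.Agent.FlatDepth.Serre
import Groth.Agent.FlatDepth.Regular
import Groth.Agent.SyntLib.CIMor
import Groth.Agent.SyntLib.Hom

/-!
# Noetherian rings which are complete intersections at all primes
-/

set_option autoImplicit false
set_option linter.style.haveILetI false
set_option backward.isDefEq.respectTransparency false
universe u

open IsLocalRing TensorProduct

namespace Groth.Agent.TorCI

/-- Noetherian with all local rings complete intersections. -/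
def IsLCIRing (R : Type u) [CommRing R] : Prop :=
  IsNoetherianRing R ∧ ∀ (p : Ideal R) [p.IsPrime], Pi1.IsCompleteIntersection (Localization.AtPrime p)

theorem isLCIRing_of_ringEquiv (R R' : Type u) [CommRing R] [CommRing R'] (e : R ≃+* R') (h : IsLCIRing R) :
    IsLCIRing R' := by
  haveI := h.1
  refine ⟨isNoetherianRing_of_ringEquiv R e, fun q _ => ?_⟩
  haveI := isNoetherianRing_of_ringEquiv R e
  let p := q.comap e.toRingHom
  let el : Localization.AtPrime p ≃+* Localization.AtPrime q :=
    IsLocalization.ringEquivOfRingEquiv _ _ e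
      (show Submonoid.map e.toMonoidHom p.primeCompl = q.primeCompl by
        ext y
        exact ⟨fun ⟨x, hx, hxy⟩ hy => hx (by show e x ∈ q; rw [show e x = y from hxy]; exact hy),
          fun hy => ⟨e.symm y, fun hmem => hy (by simpa [p] using hmem), e.apply_symm_apply y⟩⟩)
  haveI : IsNoetherianRing (Localization.AtPrime p) := IsLocalization.isNoetherianRing p.primeCompl _ inferInstance
  haveI : IsNoetherianRing (Localization.AtPrime q) := IsLocalization.isNoetherianRing q.primeCompl _ inferInstance
  exact isCI_of_ringEquiv el (h.2 p)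

theorem isLCIRing_of_isRegularRing (R : Type u) [CommRing R] (h : IsRegularRing R) : IsLCIRing R :=
  haveI := h
  ⟨inferInstance, fun p _ =>
    haveI : IsRegularLocalRing (Localization.AtPrime p) := IsRegularRing.isRegularLocalRing_localization p
    isCI_of_regularLocal⟩

/-- At a prime of a flat algebra. -/
theorem isCI_atPrime_iff {A B : Type u} [CommRing A] [CommRing B] [IsNoetherianRing A] [IsNoetherianRing B]
    [Algebra A B] [Module.Flat A B] (P : Ideal B) [P.IsPrime] (Q : Ideal ((P.comap (algebraMap A B)).Fiber B))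
    [Q.IsPrime] (e : Localization.AtPrime Q ≃+* EGA4.FibLocRing A B P) :
    Pi1.IsCompleteIntersection (Localization.AtPrime P) ↔
      Pi1.IsCompleteIntersection (Localization.AtPrime (P.comap (algebraMap A B))) ∧
        Pi1.IsCompleteIntersection (Localization.AtPrime Q) := by
  let p := P.comap (algebraMap A B)
  haveI : P.LiesOver p := ⟨rfl⟩
  letI := Localization.AtPrime.algebraOfLiesOver p P
  obtain ⟨h1, h2, h3⟩ := FlatDepth.atPrime_setup P p
  haveI := h1
  haveI := h2
  haveI : IsNoetherianRing (Localization.AtPrime p) := IsLocalization.isNoetherianRing p.primeCompl _ inferInstance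
  haveI : IsNoetherianRing (Localization.AtPrime P) := IsLocalization.isNoetherianRing P.primeCompl _ inferInstance
  let J := (maximalIdeal (Localization.AtPrime p)).map (algebraMap _ (Localization.AtPrime P))
  haveI : Nontrivial (Localization.AtPrime P ⧸ J) :=
    Ideal.Quotient.nontrivial_iff.2 (ne_top_of_le_ne_top (maximalIdeal.isMaximal _).ne_top map_maximal_le)
  haveI : IsLocalRing (Localization.AtPrime P ⧸ J) :=
    .of_surjective' (Ideal.Quotient.mk J) Ideal.Quotient.mk_surjective
  let e' : Localization.AtPrime Q ≃+* (Localization.AtPrime P ⧸ J) :=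
    e.trans (Ideal.quotEquivOfEq h3.symm : EGA4.FibLocRing A B P ≃+* _)
  haveI : IsNoetherianRing (Localization.AtPrime Q) := isNoetherianRing_of_ringEquiv _ e'.symm
  exact (isCI_flat_iff (A := Localization.AtPrime p) (B := Localization.AtPrime P)).trans
    (and_congr_right fun _ => ⟨isCI_of_ringEquiv e'.symm, isCI_of_ringEquiv e'⟩)

theorem isLCIRing_ascent (R S : Type u) [CommRing R] [CommRing S] [Algebra R S] [IsNoetherianRing R]
    [IsNoetherianRing S] [Module.Flat R S] (hR : IsLCIRing R)
    (hF : ∀ (Q : Ideal R) [Q.IsPrime], IsLCIRing (Q.Fiber S)) : IsLCIRing S := by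
  refine ⟨inferInstance, fun P _ => ?_⟩
  obtain ⟨Q, _, ⟨e⟩⟩ := FlatDepth.exists_fibre_equiv (A := R) P
  exact (isCI_atPrime_iff P Q e).2 ⟨hR.2 _, (hF _).2 Q⟩

theorem isLCIRing_of_isLocalization {R : Type u} [CommRing R] (M : Submonoid R) (R' : Type u) [CommRing R']
    [Algebra R R'] [IsLocalization M R'] (h : IsLCIRing R) : IsLCIRing R' := by
  haveI := h.1
  haveI hn : IsNoetherianRing R' := IsLocalization.isNoetherianRing M R' inferInstance
  refine ⟨hn, fun q _ => ?_⟩
  let p := q.comap (algebraMap R R')
  haveI : IsLocalization.AtPrime (Localization.AtPrime q) p :=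
    IsLocalization.isLocalization_isLocalization_atPrime_isLocalization M (Localization.AtPrime q) q
  haveI : IsNoetherianRing (Localization.AtPrime p) := IsLocalization.isNoetherianRing p.primeCompl _ inferInstance
  haveI : IsNoetherianRing (Localization.AtPrime q) := IsLocalization.isNoetherianRing q.primeCompl _ inferInstance
  exact isCI_of_ringEquiv
    (IsLocalization.algEquiv p.primeCompl (Localization.AtPrime p) (Localization.AtPrime q)).toRingEquiv (h.2 p)

/-- base change of a finitely generated field extension to any field -/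
theorem isLCIRing_field_tensor (k K κ : Type u) [Field k] [Field K] [Algebra k K] [Field κ] [Algebra k κ]
    (hK : ∃ s : Finset K, IntermediateField.adjoin k (s : Set K) = ⊤) : IsLCIRing (κ ⊗[k] K) := by
  obtain ⟨s, hs⟩ := hK
  obtain ⟨A, hsA, hA⟩ := SyntLib.exists_subalgebra_isGlobalCI (k := k) K s
  haveI : Algebra.FiniteType k A := by
    rcases hA with h | ⟨n, c, -, φ, r, hφ, -, -⟩
    · exact absurd h (not_subsingleton A)
    · exact Algebra.FiniteType.of_surjective φ hφ
  have hsyn : Synt.IsSyntomic k A := by
    refine (SyntLib.isSyntomic_iff_forall_isCompleteIntersection k A).2 fun q => ?_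
    haveI : Algebra.EssFiniteType A (Localization.AtPrime q.asIdeal) :=
      Algebra.EssFiniteType.of_isLocalization _ q.asIdeal.primeCompl
    haveI : Algebra.EssFiniteType k (Localization.AtPrime q.asIdeal) := Algebra.EssFiniteType.comp k A _
    exact SyntLib.isCIOver_iff_isCompleteIntersection.1 (SyntLib.isCIOver_of_isGlobalCI hA q.asIdeal)
  have hsyn' := SyntLib.isSyntomic_baseChange κ hsyn
  haveI : IsNoetherianRing (κ ⊗[k] A) := Algebra.FiniteType.isNoetherianRing κ (κ ⊗[k] A)
  have hκA : IsLCIRing (κ ⊗[k] A) :=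
    ⟨inferInstance, fun P _ =>
      (SyntLib.isSyntomic_iff_forall_isCompleteIntersection κ (κ ⊗[k] A)).1 hsyn' ⟨P, inferInstance⟩⟩
  haveI : IsFractionRing A K := by
    refine IsFractionRing.of_field A K fun z => ?_
    have hz : z ∈ IntermediateField.adjoin k (s : Set K) := hs ▸ IntermediateField.mem_top
    obtain ⟨a, ha, b, hb, hab⟩ := IntermediateField.mem_adjoin_iff_div.1 hz
    exact ⟨⟨a, Algebra.adjoin_le hsA ha⟩, ⟨b, Algebra.adjoin_le hsA hb⟩, hab⟩
  let T := A ⊗[k] κ
  let e : T ⊗[A] K ≃+* κ ⊗[k] K :=
    ((Algebra.TensorProduct.comm A T K).toRingEquiv.trans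
      (Algebra.TensorProduct.cancelBaseChange k A K K κ).toRingEquiv).trans
      (Algebra.TensorProduct.comm k K κ).toRingEquiv
  refine isLCIRing_of_ringEquiv (T ⊗[A] K) (κ ⊗[k] K) e ?_
  exact isLCIRing_of_isLocalization (Algebra.algebraMapSubmonoid T (nonZeroDivisors A)) _
    (isLCIRing_of_ringEquiv _ _ (Algebra.TensorProduct.comm k κ A).toRingEquiv hκA)

end Groth.Agent.TorCI
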