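import Groth.Agent.TorCI.LciPair
import Groth.Agent.KoszulLib.SchPres
import Groth.Agent.PCMor.Stalk
import Groth.Agent.S7066
import Mathlib

/-!
Local complete intersection and perfect maps: the composite criterion.
-/

set_option autoImplicit false
set_option linter.style.haveILetI false
set_option backward.isDefEq.respectTransparency false
universe u

open CategoryTheory Limits AlgebraicGeometry
open Groth.Agent
open Groth.Agent.DRingKP
attribute [local instance] HasDerivedCategory.standard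

namespace Groth.Agent.TorCI

/-- finite tor dimension of a presentation -/
theorem td_pres {B C : Type u} [CommRing B] [CommRing C] {f : B →+* C} (hf : PCMor.TD f) {m : ℕ}
    {ψ : MvPolynomial (Fin m) B →+* C} (hC : ψ.comp MvPolynomial.C = f) : PCMor.TD ψ := by
  letI := f.toAlgebra
  letI := ψ.toAlgebra
  haveI : IsScalarTower B (MvPolynomial (Fin m) B) C := IsScalarTower.of_algebraMap_eq' hC.symm
  obtain ⟨d, hd⟩ := hf
  exact ⟨d + m, (hasTorDimLE_iff C (d + m)).2 (S7066.amp_mvPolynomial m d C ((hasTorDimLE_iff C d).1 hd))⟩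

variable {X Y S : Scheme.{u}}

/-- a perfect morphism through which a local complete intersection morphism factors -/
theorem lci_pair (f : X ⟶ Y) (g : Y ⟶ S) [IsLocallyNoetherian S] [LocallyOfFiniteType g]
    (hf : MoreMor.IsPerfectMor f) (x : X) (h : Synt.IsKoszulAt (f ≫ g) x) :
    Synt.IsKoszulAt f x ∧ Synt.IsKoszulAt g (f x) := by
  obtain ⟨_, ⟨V, hV, rfl⟩, hxV, -⟩ :=
    S.isBasis_affineOpens.exists_subset_of_mem_open (Set.mem_univ (g (f x))) isOpen_univ
  obtain ⟨_, ⟨W, hW, rfl⟩, hxW, hWV⟩ :=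
    Y.isBasis_affineOpens.exists_subset_of_mem_open (show f x ∈ g ⁻¹ᵁ V from hxV) (g ⁻¹ᵁ V).isOpen
  obtain ⟨_, ⟨U, hU, rfl⟩, hxU, hUW⟩ :=
    X.isBasis_affineOpens.exists_subset_of_mem_open (show x ∈ f ⁻¹ᵁ W from hxW) (f ⁻¹ᵁ W).isOpen
  replace hWV : W ≤ g ⁻¹ᵁ V := hWV
  replace hUW : U ≤ f ⁻¹ᵁ W := hUW
  let A := Γ(S, V)
  let B := Γ(Y, W)
  let C := Γ(X, U)
  haveI : IsNoetherianRing A := IsLocallyNoetherian.component_noetherian ⟨V, hV⟩
  have hg : (g.appLE V W hWV).hom.FiniteType :=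
    HasRingHomProperty.appLE @LocallyOfFiniteType g inferInstance ⟨V, hV⟩ ⟨W, hW⟩ hWV
  obtain ⟨hpc, htd⟩ := hf U W hU hW hUW
  obtain ⟨n, π, hπ, hπC⟩ := PCMor.exists_pres hg
  obtain ⟨m, ψ, hψ, hψC⟩ := PCMor.exists_pres (f := (f.appLE W U hUW).hom) (PCMor.PC.finiteType hpc)
  have hT : PCMor.TD ψ := td_pres htd hψC
  let D₀ := MvPolynomial (Fin n) A
  let D := MvPolynomial (Fin m) D₀
  let φ : D →+* MvPolynomial (Fin m) B := MvPolynomial.map π
  have hφ : Function.Surjective φ := MvPolynomial.map_surjective π hπ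
  haveI : Algebra.Smooth A D₀ := ⟨inferInstance, inferInstance⟩
  haveI : Algebra.Smooth D₀ D := ⟨inferInstance, inferInstance⟩
  haveI : Algebra.Smooth A D := Algebra.Smooth.comp A D₀ D
  let q := (hU.primeIdealOf ⟨x, hxU⟩).asIdeal
  have hUV : U ≤ (f ≫ g) ⁻¹ᵁ V := fun y hy => hWV (hUW hy)
  have hcomp : (ψ.comp φ).comp (algebraMap A D) = ((f ≫ g).appLE V U hUV).hom := by
    rw [← Scheme.Hom.appLE_comp_appLE f g V W U hWV hUW]
    refine RingHom.ext fun a => ?_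
    show ψ (φ (MvPolynomial.C (MvPolynomial.C a))) = (f.appLE W U hUW).hom ((g.appLE V W hWV).hom a)
    rw [show φ (MvPolynomial.C (MvPolynomial.C a)) = MvPolynomial.C (π (MvPolynomial.C a)) from MvPolynomial.map_C π _,
      ← hπC, ← hψC]
    rfl
  have h1 := (KoszulLib.isKoszulAt_iff_kAt (f ≫ g) ⟨V, hV⟩ ⟨U, hU⟩ hUV D (ψ.comp φ) (hψ.comp hφ) hcomp x hxU).1 h
  obtain ⟨h2, h3⟩ := kAt_pair φ hφ ψ hψ hT q h1
  refine ⟨?_, ?_⟩
  · haveI : Algebra.Smooth Γ(Y, W) (MvPolynomial (Fin m) Γ(Y, W)) := ⟨inferInstance, inferInstance⟩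
    exact (KoszulLib.isKoszulAt_iff_kAt f ⟨W, hW⟩ ⟨U, hU⟩ hUW (MvPolynomial (Fin m) Γ(Y, W)) ψ hψ hψC x hxU).2 h3
  · haveI : Algebra.Smooth Γ(S, V) (MvPolynomial (Fin n) Γ(S, V)) := ⟨inferInstance, inferInstance⟩
    refine (KoszulLib.isKoszulAt_iff_kAt g ⟨V, hV⟩ ⟨W, hW⟩ hWV (MvPolynomial (Fin n) Γ(S, V)) π hπ hπC (f x)
      (hUW hxU)).2 ?_
    rw [show RingHom.ker φ = (RingHom.ker π).map MvPolynomial.C from MvPolynomial.ker_map π] at h2
    have h4 := kAt_of_flat (A := D₀) (B := D) (RingHom.ker π) ((q.comap ψ).comap φ) h2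
    have h5 : ((q.comap ψ).comap φ).comap (algebraMap D₀ D) =
        (hW.primeIdealOf ⟨f x, hUW hxU⟩).asIdeal.comap π := by
      rw [← KoszulLib.comap_primeIdealOf f ⟨W, hW⟩ ⟨U, hU⟩ hUW x hxU, Ideal.comap_comap, Ideal.comap_comap,
        Ideal.comap_comap]
      refine congrArg (fun j => Ideal.comap j q) (RingHom.ext fun a => ?_)
      show ψ (φ (MvPolynomial.C a)) = (f.appLE W U hUW).hom (π a)
      rw [show φ (MvPolynomial.C a) = MvPolynomial.C (π a) from MvPolynomial.map_C π _, ← hψC]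
      rfl
    rw [h5] at h4
    exact h4

end Groth.Agent.TorCI
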