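import Groth.Agent.TorCI.TDBaseChange
import Groth.Agent.PCMor.Stalk
import Groth.Agent.DRingKP.PerfMod
import Groth.Agent.PdRes.Basic
import Groth.Agent.SerreReg.Descent
import Groth.Agent.FlatDepth.Comp
import Mathlib

/-!
A perfect diagonal forces regular local rings.
-/

set_option autoImplicit false
set_option linter.style.haveILetI false
set_option backward.isDefEq.respectTransparency false
universe u

namespace Groth.Agent.TorCI

open CategoryTheory Limits DerivedCategory
open Groth.Agent Groth.Agent.DRingKP
open scoped TensorProduct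

attribute [local instance] HasDerivedCategory.standard

/-- Serre's criterion through tor dimension -/
theorem isRegularLocalRing_of_td (R : Type u) [CommRing R] [IsLocalRing R] [IsNoetherianRing R]
    (h : DRing.HasFiniteTorDim R (IsLocalRing.ResidueField R)) : IsRegularLocalRing R := by
  haveI : Module.Finite R (IsLocalRing.ResidueField R) :=
    Module.Finite.of_surjective (Algebra.linearMap R (IsLocalRing.ResidueField R)) IsLocalRing.residue_surjective
  obtain ⟨d, hd⟩ := h
  have hp : DRing.IsPerfectModule R (IsLocalRing.ResidueField R) :=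
    (isPerfect_iff _).2 ⟨pc'_of_forall fun m => pcModule_of_fp isCoh_of_noetherian
      (ModuleCat.of R (IsLocalRing.ResidueField R)) (Module.finitePresentation_of_finite R _) m,
      -(d : ℤ), 0, (hasTorDimLE_iff _ d).1 hd⟩
  obtain ⟨P, e, hP, -⟩ := (isPerfectModule_iff _).1 hp
  exact SerreReg.isRegularLocalRing_of_pdLE R e (PdRes.hasProjectiveDimensionLE_of_resolution e _ P hP e le_rfl)

theorem td_of_bijective {A B C : Type u} [CommRing A] [CommRing B] [CommRing C] {f : A →+* B} (hf : PCMor.TD f)
    (e : B ≃+* C) : PCMor.TD (e.toRingHom.comp f) :=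
  PCMor.TD.comp hf (PCMor.td_of_flat (RingHom.Flat.of_bijective e.bijective))

theorem td_of_bijective_source {A B C : Type u} [CommRing A] [CommRing B] [CommRing C] {f : A →+* B} (hf : PCMor.TD f)
    (e : C ≃+* A) : PCMor.TD (f.comp e.toRingHom) :=
  PCMor.TD.comp (PCMor.td_of_flat (RingHom.Flat.of_bijective e.bijective)) hf

/-- base change of a map of finite tor dimension between flat algebras -/
theorem td_map_tensor {A A' R M : Type u} [CommRing A] [CommRing A'] [CommRing R] [CommRing M] [Algebra A A']
    [Algebra A R] [Algebra A M] [Algebra R M] [IsScalarTower A R M] [Module.Flat A R] [Module.Flat A M]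
    (h : DRing.HasFiniteTorDim R M) :
    PCMor.TD (Algebra.TensorProduct.map (IsScalarTower.toAlgHom A R M) (AlgHom.id A A')).toRingHom := by
  obtain ⟨d, hd⟩ := h
  have h1 := torDimLE_baseChange (A := A) (A' := A') (R := R) d M hd
  let φ := (Algebra.TensorProduct.map (IsScalarTower.toAlgHom A R M) (AlgHom.id A A')).toRingHom
  letI := φ.toAlgebra
  let e : ((R ⊗[A] A') ⊗[R] M) ≃+* (M ⊗[A] A') := (Algebra.TensorProduct.comm R (R ⊗[A] A') M).toRingEquiv.trans
    (Algebra.TensorProduct.cancelBaseChange A R R M A').toRingEquiv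
  have he : ∀ (w : R ⊗[A] A') (x : M), e (w ⊗ₜ[R] x) = φ w * (x ⊗ₜ[A] (1 : A')) := by
    intro w x
    induction w using TensorProduct.induction_on with
    | zero => simp
    | tmul r a =>
      show e ((r ⊗ₜ[A] a) ⊗ₜ[R] x) = (IsScalarTower.toAlgHom A R M r ⊗ₜ[A] a) * (x ⊗ₜ[A] (1 : A'))
      simp [e, Algebra.smul_def]
    | add z w hz hw => rw [TensorProduct.add_tmul, map_add, map_add, hz, hw, add_mul]
  let el : ((R ⊗[A] A') ⊗[R] M) ≃ₗ[R ⊗[A] A'] (M ⊗[A] A') :=
    { toFun := fun z => e z
      map_add' := fun z w => map_add e z w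
      invFun := fun z => e.symm z
      left_inv := fun z => e.symm_apply_apply z
      right_inv := fun z => e.apply_symm_apply z
      map_smul' := fun r z => by
        show e (r • z) = φ r * e z
        induction z using TensorProduct.induction_on with
        | zero => rw [smul_zero, map_zero, mul_zero]
        | tmul w x => rw [TensorProduct.smul_tmul', smul_eq_mul, he, he, map_mul, mul_assoc]
        | add z w hz hw => rw [smul_add, map_add, map_add, hz, hw, mul_add] }
  exact ⟨d, torDimLE_of_equiv el h1⟩

/-- the diagonal of finite tor dimension over a field gives regular local rings -/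
theorem regular_of_diag (K C : Type u) [Field K] [CommRing C] [Algebra K C] [IsNoetherianRing C]
    [Algebra.EssFiniteType K C] (h : PCMor.TD (Algebra.TensorProduct.lmul' K (S := C)).toRingHom)
    (Q : Ideal C) [Q.IsPrime] : IsRegularLocalRing (Localization.AtPrime Q) := by
  let R := C ⊗[K] C
  let κ := Q.ResidueField
  letI : Algebra R C := (Algebra.TensorProduct.lmul' K (S := C)).toRingHom.toAlgebra
  haveI : IsScalarTower C R C := IsScalarTower.of_algebraMap_eq (R := C) (S := R) (A := C) fun x => by
    show x = Algebra.TensorProduct.lmul' K (x ⊗ₜ[K] (1 : C))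
    simp
  haveI : Algebra.EssFiniteType K κ := Algebra.EssFiniteType.comp K C κ
  let D := C ⊗[K] κ
  let g : D →+* κ := (Algebra.TensorProduct.lift (Algebra.ofId C κ) (AlgHom.id K κ)
    fun _ _ => mul_comm _ _).toRingHom
  have hgC : ∀ x : C, g (x ⊗ₜ[K] (1 : κ)) = algebraMap C κ x := fun x => by
    refine (Algebra.TensorProduct.lift_tmul _ _ _ x 1).trans ?_
    simp [Algebra.ofId_apply]
  have hgκ : ∀ y : κ, g ((1 : C) ⊗ₜ[K] y) = y := fun y => by
    refine (Algebra.TensorProduct.lift_tmul _ _ _ 1 y).trans ?_
    simp
  have hg : PCMor.TD g := by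
    let e2 : (R ⊗[C] κ) ≃+* D := (Algebra.TensorProduct.comm C R κ).toRingEquiv.trans
      ((Algebra.TensorProduct.cancelBaseChange K C C κ C).toRingEquiv.trans
        (Algebra.TensorProduct.comm K κ C).toRingEquiv)
    let e3 : (C ⊗[C] κ) ≃+* κ := (Algebra.TensorProduct.lid C κ).toRingEquiv
    have he : g = (e3.toRingHom.comp
        (Algebra.TensorProduct.map (IsScalarTower.toAlgHom C R C) (AlgHom.id C κ)).toRingHom).comp e2.symm.toRingHom := by
      refine RingHom.ext fun z => ?_
      induction z using TensorProduct.induction_on with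
      | zero => simp
      | tmul x y =>
        have h2 : e2 (((1 : C) ⊗ₜ[K] x) ⊗ₜ[C] y) = x ⊗ₜ[K] y := by
          simp [e2, Algebra.smul_def, TensorProduct.smul_tmul']
          show (Algebra.TensorProduct.comm K κ C)
            ((Algebra.TensorProduct.cancelBaseChange K C C κ C) (y ⊗ₜ[C] ((1 : C) ⊗ₜ[K] x))) = _
          simp
        show g (x ⊗ₜ[K] y) = e3 ((Algebra.TensorProduct.map (IsScalarTower.toAlgHom C R C) (AlgHom.id C κ)) (e2.symm _))
        rw [← h2, RingEquiv.symm_apply_apply, h2]
        simp [g, e3, Algebra.smul_def, Algebra.ofId_apply]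
        show algebraMap C κ x * y = algebraMap C κ (Algebra.TensorProduct.lmul' K ((1 : C) ⊗ₜ[K] x)) * y
        simp
      | add z w hz hw => rw [map_add, map_add, hz, hw]
    rw [he]
    exact td_of_bijective_source (td_of_bijective (td_map_tensor h) e3) e2.symm
  have hgs : Function.Surjective g := fun y => ⟨_, hgκ y⟩
  let m := RingHom.ker g
  haveI : m.IsMaximal := RingHom.ker_isMaximal_of_surjective g hgs
  haveI : IsNoetherianRing D :=
    haveI := FlatDepth.isNoetherianRing_tensor_essFinite K C κ
    isNoetherianRing_of_ringEquiv (κ ⊗[K] C) (Algebra.TensorProduct.comm K κ C).toRingEquiv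
  let L := Localization.AtPrime m
  haveI : IsNoetherianRing L := IsLocalization.isNoetherianRing m.primeCompl L inferInstance
  have hu : ∀ s : m.primeCompl, IsUnit (g s) := fun s => isUnit_iff_ne_zero.2 s.2
  let g' : L →+* κ := IsLocalization.lift hu
  have hg' : g'.comp (algebraMap D L) = g := IsLocalization.lift_comp hu
  have hT' : PCMor.TD g' := PCMor.TD.of_comp_localization (A := D) (B := L) m.primeCompl (hg'.symm ▸ hg)
  have hs' : Function.Surjective g' := fun y => ⟨algebraMap D L ((1 : C) ⊗ₜ[K] y), by
    rw [← RingHom.comp_apply, hg', hgκ]⟩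
  haveI : IsRegularLocalRing L := by
    refine isRegularLocalRing_of_td L ?_
    letI := g'.toAlgebra
    obtain ⟨n, hn⟩ := hT'
    refine ⟨n, torDimLE_of_equiv ?_ hn⟩
    have hk : LinearMap.ker (Algebra.linearMap L κ) = IsLocalRing.maximalIdeal L :=
      IsLocalRing.eq_maximalIdeal (RingHom.ker_isMaximal_of_surjective g' hs')
    exact ((Algebra.linearMap L κ).quotKerEquivOfSurjective hs').symm.trans (Submodule.quotEquivOfEq _ _ hk)
  have hmQ : m.comap (algebraMap C D) = Q := by
    ext x
    show g (x ⊗ₜ[K] (1 : κ)) = 0 ↔ x ∈ Q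
    rw [hgC]
    exact Ideal.algebraMap_residueField_eq_zero
  haveI : m.LiesOver Q := ⟨hmQ.symm⟩
  letI := Localization.AtPrime.algebraOfLiesOver Q m
  haveI : Module.Flat C D := inferInstance
  haveI : Module.Flat C L :=
    haveI := IsLocalization.flat L m.primeCompl
    Module.Flat.trans C D L
  haveI : Module.Flat (Localization.AtPrime Q) L :=
    (Module.flat_iff_of_isLocalization (Localization.AtPrime Q) Q.primeCompl L).mpr inferInstance
  haveI : IsLocalHom (algebraMap (Localization.AtPrime Q) L) := by
    rw [RingHom.algebraMap_toAlgebra]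
    exact Localization.isLocalHom_localRingHom Q m (algebraMap C D) Ideal.LiesOver.over
  haveI : IsNoetherianRing (Localization.AtPrime Q) := IsLocalization.isNoetherianRing Q.primeCompl _ inferInstance
  exact SerreReg.isRegularLocalRing_of_flat (Localization.AtPrime Q) L

end Groth.Agent.TorCI
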