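import Groth.Agent.Wiebe.Basic
import Mathlib

/-!
The periodicity operator of a resolution lifted along a small extension has no nilpotent orbit
through the Koszul classes.
-/

set_option autoImplicit false
set_option linter.style.haveILetI false
universe u v w

namespace Groth.Agent.TorCI

open Groth.Agent

variable {A : Type u} [CommRing A]

theorem d_mem : ∀ {r : ℕ} (a : Fin r → A) (m : Ideal A), (∀ i, a i ∈ m) → ∀ (z : Wiebe.X A r) (s : Fin r → Bool),
    Wiebe.d a z s ∈ m := by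
  intro r
  induction r with
  | zero => intro a m _ z s; simp [Wiebe.d]
  | succ r ih =>
    intro a m ha z s
    rw [← Wiebe.mk_p (Wiebe.d a z), Wiebe.p0_d, Wiebe.p1_d]
    cases h : s 0 with
    | false =>
      simp only [Wiebe.mk, LinearMap.coe_mk, AddHom.coe_mk, h, cond_false, Pi.add_apply, Pi.smul_apply, smul_eq_mul]
      exact m.add_mem (ih _ m (fun i => ha _) _ _) (m.mul_mem_right _ (ha 0))
    | true =>
      simp only [Wiebe.mk, LinearMap.coe_mk, AddHom.coe_mk, h, cond_true, Pi.neg_apply]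
      exact m.neg_mem (ih _ m (fun i => ha _) _ _)

theorem w_mem : ∀ {r : ℕ} (b : Fin r → A) (m : Ideal A), (∀ i, b i ∈ m) → ∀ (z : Wiebe.X A r) (s : Fin r → Bool),
    Wiebe.w b z s ∈ m := by
  intro r
  induction r with
  | zero => intro b m _ z s; simp [Wiebe.w]
  | succ r ih =>
    intro b m hb z s
    rw [← Wiebe.mk_p (Wiebe.w b z), Wiebe.p0_w, Wiebe.p1_w]
    cases h : s 0 with
    | false =>
      simp only [Wiebe.mk, LinearMap.coe_mk, AddHom.coe_mk, h, cond_false]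
      exact ih _ m (fun i => hb _) _ _
    | true =>
      simp only [Wiebe.mk, LinearMap.coe_mk, AddHom.coe_mk, h, cond_true, Pi.sub_apply, Pi.smul_apply, smul_eq_mul]
      exact m.sub_mem (m.mul_mem_right _ (hb 0)) (ih _ m (fun i => hb _) _ _)

/-- the matrix factorisation `d a + w b` -/
def delta {r : ℕ} (a b : Fin r → A) : Wiebe.X A r →ₗ[A] Wiebe.X A r := Wiebe.d a + Wiebe.w b

theorem delta_delta {r : ℕ} (a b : Fin r → A) (z : Wiebe.X A r) :
    delta a b (delta a b z) = (∑ i, b i * a i) • z := by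
  show Wiebe.d a (Wiebe.d a z + Wiebe.w b z) + Wiebe.w b (Wiebe.d a z + Wiebe.w b z) = _
  rw [map_add, map_add, Wiebe.d_d, Wiebe.w_w, zero_add, add_zero, Wiebe.d_w]

theorem map_mem_smul_top {r : ℕ} {M : Type v} [AddCommGroup M] [Module A M] (m : Ideal A)
    (f : Wiebe.X A r →ₗ[A] M) (z : Wiebe.X A r) (hz : ∀ s, z s ∈ m) : f z ∈ m • (⊤ : Submodule A M) := by
  classical
  rw [← (Pi.basisFun A (Fin r → Bool)).sum_repr z, map_sum]
  refine Submodule.sum_mem _ fun s _ => ?_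
  rw [map_smul, Pi.basisFun_repr]
  exact Submodule.smul_mem_smul (hz s) Submodule.mem_top

theorem smul_of_mem_smul_top {M : Type v} [AddCommGroup M] [Module A M] {m : Ideal A} {x : A}
    (hxm : ∀ a ∈ m, x * a = 0) {u : M} (hu : u ∈ m • (⊤ : Submodule A M)) : x • u = 0 := by
  refine Submodule.smul_induction_on hu (fun a ha n _ => ?_) fun p q hp hq => by rw [smul_add, hp, hq, add_zero]
  rw [smul_smul, hxm a ha, zero_smul]

theorem mem_smul_top_of_smul_eq_zero {M : Type v} [AddCommGroup M] [Module A M] [Module.Free A M] {m : Ideal A}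
    {x : A} (hann : ∀ a, x * a = 0 → a ∈ m) {u : M} (hu : x • u = 0) : u ∈ m • (⊤ : Submodule A M) := by
  let e := Module.Free.chooseBasis A M
  rw [← e.linearCombination_repr u, Finsupp.linearCombination_apply]
  refine Submodule.sum_mem _ fun i _ => Submodule.smul_mem_smul (hann _ ?_) Submodule.mem_top
  have := congrArg (fun f => f i) (congrArg e.repr hu)
  simpa using this

/-- a linear map out of a free module into the multiples of `x` is divisible by `x` -/
theorem exists_div {G : Type w} {M : Type v} [AddCommGroup G] [Module A G] [Module.Free A G] [AddCommGroup M] [Module A M]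
    (x : A) (f : G →ₗ[A] M) (h : ∀ g, ∃ t, f g = x • t) : ∃ s : G →ₗ[A] M, ∀ g, f g = x • s g := by
  choose t ht using h
  let e := Module.Free.chooseBasis A G
  refine ⟨e.constr A (fun i => t (e i)), fun g => ?_⟩
  have : f = x • e.constr A (fun i => t (e i)) := e.ext fun i => by simp [ht]
  exact LinearMap.congr_fun this g

section Main

variable {r : ℕ} (F : ℕ → Type v) [∀ n, AddCommGroup (F n)] [∀ n, Module A (F n)] [∀ n, Module.Free A (F n)]
  (D : ∀ n, F (n + 1) →ₗ[A] F n)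

theorem false_of_small_extension (m J : Ideal A) (a b : Fin r → A) (ha : ∀ i, a i ∈ m) (hb : ∀ i, b i ∈ J)
    (hJ : J ≤ m) {x : A} (hab : ∑ i, b i * a i = x)
    (hxm : ∀ c ∈ m, x * c = 0) (hann : ∀ c, x * c = 0 → c ∈ m)
    (hDD : ∀ n v, ∃ t, D n (D (n + 1) v) = x • t)
    (hex : ∀ n v, (∃ t, D n v = x • t) → ∃ w t, v = D (n + 1) w + x • t)
    (f₀ : F 0) (hf₀ : f₀ ∉ LinearMap.range (D 0) ⊔ m • ⊤)
    (hm₀ : ∀ v ∈ m • (⊤ : Submodule A (F 0)), ∃ w t, v = D 0 w + x • t)
    (N : ℕ) (hTor : ∀ n, N ≤ n → ∀ v, D n v ∈ J • (⊤ : Submodule A (F n)) →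
      v ∈ LinearMap.range (D (n + 1)) ⊔ J • ⊤) : False := by
  classical
  let G := Wiebe.X A r
  let δ := delta a b
  have hδδ : ∀ z, δ (δ z) = x • z := fun z => by rw [delta_delta, hab]
  have hδm : ∀ z s, δ z s ∈ m := fun z s =>
    m.add_mem (d_mem a m ha z s) (w_mem b m (fun i => hJ (hb i)) z s)
  have hxJ : x ∈ J := hab ▸ J.sum_mem fun i _ => J.mul_mem_right _ (hb i)
  let e := Pi.basisFun A (Fin r → Bool)
  -- comparison maps
  have step : ∀ n (p : G →ₗ[A] F n) (q : G →ₗ[A] F (n + 1)), (∀ g, ∃ t, D n (q g) = p (δ g) + x • t) →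
      ∃ q' : G →ₗ[A] F (n + 1 + 1), ∀ g, ∃ t, D (n + 1) (q' g) = q (δ g) + x • t := by
    intro n p q hpq
    have h1 : ∀ s, ∃ w t, q (δ (e s)) = D (n + 1) w + x • t := fun s => by
      refine hex n _ ?_
      obtain ⟨t, ht⟩ := hpq (δ (e s))
      exact ⟨p (e s) + t, by rw [ht, hδδ, map_smul, smul_add]⟩
    choose w t hw using h1
    refine ⟨e.constr A w, fun g => ⟨-(e.constr A t g), ?_⟩⟩
    have : D (n + 1) ∘ₗ e.constr A w + x • e.constr A t = q ∘ₗ δ := e.ext fun s => by simp [hw]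
    have h2 := LinearMap.congr_fun this g
    simp only [LinearMap.add_apply, LinearMap.comp_apply, LinearMap.smul_apply] at h2
    rw [← h2, smul_neg, add_neg_cancel_right]
  let φ₀ : G →ₗ[A] F 0 := Wiebe.eps.smulRight f₀
  obtain ⟨φ₁, hφ₁⟩ : ∃ q : G →ₗ[A] F 1, ∀ g, ∃ t, D 0 (q g) = φ₀ (δ g) + x • t := by
    have h1 : ∀ s, ∃ w t, φ₀ (δ (e s)) = D 0 w + x • t := fun s =>
      hm₀ _ (map_mem_smul_top m φ₀ _ (hδm (e s)))
    choose w t hw using h1
    refine ⟨e.constr A w, fun g => ⟨-(e.constr A t g), ?_⟩⟩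
    have : D 0 ∘ₗ e.constr A w + x • e.constr A t = φ₀ ∘ₗ δ := e.ext fun s => by simp [hw]
    have h2 := LinearMap.congr_fun this g
    simp only [LinearMap.add_apply, LinearMap.comp_apply, LinearMap.smul_apply] at h2
    rw [← h2, smul_neg, add_neg_cancel_right]
  let T : ℕ → Type (max u v) := fun n =>
    {p : (G →ₗ[A] F n) × (G →ₗ[A] F (n + 1)) // ∀ g, ∃ t, D n (p.2 g) = p.1 (δ g) + x • t}
  let S : ∀ n, T n := fun n => Nat.rec (motive := T) ⟨(φ₀, φ₁), hφ₁⟩
    (fun n p => ⟨(p.1.2, (step n p.1.1 p.1.2 p.2).choose), (step n p.1.1 p.1.2 p.2).choose_spec⟩) n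
  let φ : ∀ n, G →ₗ[A] F n := fun n => (S n).1.1
  have hφ : ∀ n g, ∃ t, D n (φ (n + 1) g) = φ n (δ g) + x • t := fun n => (S n).2
  have hψ : ∀ n, ∃ ψ : G →ₗ[A] F n, ∀ g, D n (φ (n + 1) g) = φ n (δ g) + x • ψ g := fun n => by
    obtain ⟨ψ, hψ⟩ := exists_div x (D n ∘ₗ φ (n + 1) - φ n ∘ₗ δ) fun g => by
      obtain ⟨t, ht⟩ := hφ n g
      exact ⟨t, by simp [ht]⟩
    exact ⟨ψ, fun g => by rw [← hψ g]; simp⟩
  choose ψ hψ using hψ
  have hh : ∀ n, ∃ h : F (n + 2) →ₗ[A] F n, ∀ v, D n (D (n + 1) v) = x • h v := fun n =>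
    exists_div x (D n ∘ₗ D (n + 1)) (hDD n)
  choose h hh using hh
  let β := Wiebe.bot A r
  let B : ∀ n, Submodule A (F n) := fun n => LinearMap.range (D n) ⊔ m • ⊤
  have hdown : ∀ n, φ (n + 2) β ∈ B (n + 2) → φ n β ∈ B n := by
    intro n hn
    have key : x • (h n (φ (n + 2) β) - φ n β - D n (ψ (n + 1) β) - ψ n (δ β)) = 0 := by
      have h1 : x • h n (φ (n + 2) β) = x • φ n β + x • ψ n (δ β) + x • D n (ψ (n + 1) β) := by
        rw [← hh, hψ (n + 1) β, map_add, map_smul, hψ n (δ β), hδδ, map_smul]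
      simp only [smul_sub, h1]
      abel
    have h2 : h n (φ (n + 2) β) - φ n β - D n (ψ (n + 1) β) ∈ m • (⊤ : Submodule A (F n)) := by
      have := Submodule.add_mem _ (mem_smul_top_of_smul_eq_zero hann key)
        (map_mem_smul_top m (ψ n) _ (hδm β))
      rwa [sub_add_cancel] at this
    obtain ⟨_, ⟨v, rfl⟩, u, hu, huv⟩ := Submodule.mem_sup.1 hn
    have h3 : h n (D (n + 2) v) - D n (h (n + 1) v) ∈ m • (⊤ : Submodule A (F n)) := by
      refine mem_smul_top_of_smul_eq_zero hann ?_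
      rw [smul_sub, ← hh, hh (n + 1) v, map_smul, sub_self]
    have h4 : h n u ∈ m • (⊤ : Submodule A (F n)) :=
      (Submodule.map_smul'' m ⊤ (h n)).le.trans (Submodule.smul_mono le_rfl le_top) ⟨u, hu, rfl⟩
    have h5 : φ n β = D n (h (n + 1) v - ψ (n + 1) β) +
        ((h n (D (n + 2) v) - D n (h (n + 1) v)) + h n u -
          (h n (φ (n + 2) β) - φ n β - D n (ψ (n + 1) β))) := by
      rw [map_sub, ← huv, map_add]
      abel
    rw [h5]
    exact Submodule.add_mem_sup ⟨_, rfl⟩ (Submodule.sub_mem _ (Submodule.add_mem _ h3 h4) h2)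
  have htop : φ (N + N + 2) β ∈ B (N + N + 2) := by
    obtain ⟨t, ht⟩ := hφ (N + N + 1) β
    have hJv : D (N + N + 1) (φ (N + N + 2) β) ∈ J • (⊤ : Submodule A (F (N + N + 1))) := by
      rw [ht]
      refine Submodule.add_mem _ (map_mem_smul_top J (φ (N + N + 1)) _ fun s => ?_)
        (Submodule.smul_mem_smul hxJ Submodule.mem_top)
      show (Wiebe.d a (Wiebe.bot A r) + Wiebe.w b (Wiebe.bot A r)) s ∈ J
      rw [Wiebe.d_bot, zero_add]
      exact w_mem b J hb _ _
    exact (sup_le_sup_left (show J • (⊤ : Submodule A (F (N + N + 2))) ≤ m • ⊤ from Submodule.smul_mono_left hJ) _)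
      (hTor _ (by lia) _ hJv)
  have hall : ∀ k, φ (2 * k) β ∈ B (2 * k) → φ 0 β ∈ B 0 := by
    intro k
    induction k with
    | zero => exact id
    | succ k ih => exact fun hk => ih (hdown (2 * k) hk)
  refine hf₀ ?_
  have h0 : φ 0 β = f₀ := by
    show Wiebe.eps (Wiebe.bot A r) • f₀ = f₀
    rw [Wiebe.eps_bot, one_smul]
  rw [← h0]
  refine hall (N + 1) ?_
  rw [show 2 * (N + 1) = N + N + 2 by lia]
  exact htop

end Main

end Groth.Agent.TorCI
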