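import Groth.Agent.DRingKP.Tor
import Groth.Agent.DRingKP.FlatBC
import Mathlib

/-!
Elementwise criteria for the vanishing of `Tor`.
-/

set_option autoImplicit false
set_option linter.style.haveILetI false
set_option backward.isDefEq.respectTransparency false
universe u

namespace Groth.Agent.TorCI

open CategoryTheory Limits MonoidalCategory DerivedCategory
open Groth.Agent.DRingKP
open scoped TensorProduct

attribute [local instance] HasDerivedCategory.standard

/-- `Tor` through a resolution of the second variable -/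
theorem tor_exact_iff {A : Type u} [CommRing A] (M : Type u) [AddCommGroup M] [Module A M] {N : ModuleCat.{u} A}
    (R : ProjectiveResolution N) (q : ℕ) :
    IsZero (((CategoryTheory.Tor (ModuleCat.{u} A) (q + 1)).obj (ModuleCat.of A M)).obj N) ↔
      Function.Exact (LinearMap.lTensor M (R.complex.d (q + 2) (q + 1)).hom)
        (LinearMap.lTensor M (R.complex.d (q + 1) q).hom) := by
  refine (R.isoLeftDerivedObj (tensorLeft (ModuleCat.of A M)) (q + 1)).isZero_iff.trans ?_
  refine (HomologicalComplex.exactAt_iff_isZero_homology _ _).symm.trans ?_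
  refine (HomologicalComplex.exactAt_iff' _ (q + 2) (q + 1) q (by simp) (by simp)).trans ?_
  exact ShortComplex.ShortExact.moduleCat_exact_iff_function_exact _

/-- symmetry of the vanishing of `Tor` -/
theorem tor_symm {A : Type u} [CommRing A] (M N : ModuleCat.{u} A) (q : ℕ) :
    IsZero (((CategoryTheory.Tor (ModuleCat.{u} A) (q + 1)).obj M).obj N) ↔
      IsZero (((CategoryTheory.Tor (ModuleCat.{u} A) (q + 1)).obj N).obj M) := by
  rw [isZero_tor_iff M N (projectiveResolution N), isZero_tor_iff N M (projectiveResolution M),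
    isZero_balance (projectiveResolution M) (projectiveResolution N)]

/-- a short exact sequence transfers exactness -/
theorem exact_lTensor_of_shortExact {A : Type u} [CommRing A] {P₂ P₁ P₀ P' : Type u} [AddCommGroup P₂] [Module A P₂]
    [AddCommGroup P₁] [Module A P₁] [AddCommGroup P₀] [Module A P₀] [AddCommGroup P'] [Module A P']
    [Module.Flat A P'] (d₂ : P₂ →ₗ[A] P₁) (d₁ : P₁ →ₗ[A] P₀) (d₀ : P₀ →ₗ[A] P') (h₂₁ : d₁ ∘ₗ d₂ = 0)
    (h₁₀ : d₀ ∘ₗ d₁ = 0)
    {M' M M'' : Type u} [AddCommGroup M'] [Module A M'] [AddCommGroup M] [Module A M] [AddCommGroup M''] [Module A M'']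
    (f : M' →ₗ[A] M) (g : M →ₗ[A] M'') (hf : Function.Injective f) (hfg : Function.Exact f g)
    (hg : Function.Surjective g)
    (h' : Function.Exact (LinearMap.rTensor M' d₁) (LinearMap.rTensor M' d₀))
    (h : Function.Exact (LinearMap.rTensor M d₂) (LinearMap.rTensor M d₁)) :
    Function.Exact (LinearMap.rTensor M'' d₂) (LinearMap.rTensor M'' d₁) := by
  intro z
  constructor
  · intro hz
    obtain ⟨y, rfl⟩ := LinearMap.lTensor_surjective P₁ hg z
    have hy : LinearMap.lTensor P₀ g (LinearMap.rTensor M d₁ y) = 0 := by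
      rw [← LinearMap.comp_apply, LinearMap.lTensor_comp_rTensor, ← LinearMap.rTensor_comp_lTensor,
        LinearMap.comp_apply]
      exact hz
    obtain ⟨u, hu⟩ := ((lTensor_exact P₀ hfg hg) _).1 hy
    have hu0 : LinearMap.rTensor M' d₀ u = 0 := by
      apply Module.Flat.lTensor_preserves_injective_linearMap (M := P') f hf
      rw [map_zero, ← LinearMap.comp_apply, LinearMap.lTensor_comp_rTensor, ← LinearMap.rTensor_comp_lTensor,
        LinearMap.comp_apply, hu, ← LinearMap.comp_apply, ← LinearMap.rTensor_comp, h₁₀, LinearMap.rTensor_zero,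
        LinearMap.zero_apply]
    obtain ⟨v, rfl⟩ := (h' u).1 hu0
    have hy' : LinearMap.rTensor M d₁ (y - LinearMap.lTensor P₁ f v) = 0 := by
      rw [map_sub, ← LinearMap.comp_apply (LinearMap.rTensor M d₁), LinearMap.rTensor_comp_lTensor,
        ← LinearMap.lTensor_comp_rTensor, LinearMap.comp_apply, hu, sub_self]
    obtain ⟨w, hw⟩ := (h _).1 hy'
    refine ⟨LinearMap.lTensor P₂ g w, ?_⟩
    rw [← LinearMap.comp_apply, LinearMap.rTensor_comp_lTensor, ← LinearMap.lTensor_comp_rTensor,
      LinearMap.comp_apply, hw, map_sub, ← LinearMap.comp_apply (LinearMap.lTensor P₁ g) (LinearMap.lTensor P₁ f),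
      ← LinearMap.lTensor_comp, hfg.linearMap_comp_eq_zero, LinearMap.lTensor_zero, LinearMap.zero_apply, sub_zero]
  · rintro ⟨w, rfl⟩
    rw [← LinearMap.comp_apply, ← LinearMap.rTensor_comp, h₂₁, LinearMap.rTensor_zero, LinearMap.zero_apply]

/-- exactness in either order of the factors -/
theorem exact_rTensor_iff {A : Type u} [CommRing A] (M : Type u) [AddCommGroup M] [Module A M] {P Q R : Type u}
    [AddCommGroup P] [Module A P] [AddCommGroup Q] [Module A Q] [AddCommGroup R] [Module A R]
    (f : P →ₗ[A] Q) (g : Q →ₗ[A] R) :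
    Function.Exact (LinearMap.rTensor M f) (LinearMap.rTensor M g) ↔
      Function.Exact (LinearMap.lTensor M f) (LinearMap.lTensor M g) :=
  Function.Exact.iff_of_ladder_linearEquiv (e₁ := TensorProduct.comm A M P) (e₂ := TensorProduct.comm A M Q)
    (e₃ := TensorProduct.comm A M R) (TensorProduct.ext' fun _ _ => rfl) (TensorProduct.ext' fun _ _ => rfl)

/-- devissage along a regular element -/
theorem tor_of_shortExact {A : Type u} [CommRing A] (X : Type u) [AddCommGroup X] [Module A X]
    {M' M M'' : Type u} [AddCommGroup M'] [Module A M'] [AddCommGroup M] [Module A M] [AddCommGroup M''] [Module A M'']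
    (f : M' →ₗ[A] M) (g : M →ₗ[A] M'') (hf : Function.Injective f) (hfg : Function.Exact f g)
    (hg : Function.Surjective g) (N : ℕ) (h' : ∀ p, N < p → Subsingleton (DRing.Tor A p X M'))
    (h : ∀ p, N < p → Subsingleton (DRing.Tor A p X M)) :
    ∀ p, N + 1 < p → Subsingleton (DRing.Tor A p X M'') := by
  intro p hp
  obtain ⟨q, rfl⟩ : ∃ q, p = q + 2 := ⟨p - 2, by lia⟩
  let R := projectiveResolution (ModuleCat.of A X)
  haveI : ∀ n, Module.Flat A (R.complex.X n) := fun n =>
    haveI : Module.Projective A (R.complex.X n) := (IsProjective.iff_projective _).2 (R.projective n)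
    inferInstance
  have key : ∀ (T : Type u) [AddCommGroup T] [Module A T] (i : ℕ), Subsingleton (DRing.Tor A (i + 1) X T) ↔
      Function.Exact (LinearMap.rTensor T (R.complex.d (i + 2) (i + 1)).hom)
        (LinearMap.rTensor T (R.complex.d (i + 1) i).hom) := fun T _ _ i =>
    (Iff.intro (fun hs => @ModuleCat.isZero_of_subsingleton _ _ _ hs)
      (fun hz => ModuleCat.subsingleton_of_isZero hz)).trans
      ((tor_symm (ModuleCat.of A X) (ModuleCat.of A T) i).trans
        ((tor_exact_iff T R i).trans (exact_rTensor_iff T _ _).symm))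
  refine (key M'' (q + 1)).2 (exact_lTensor_of_shortExact _ _ (R.complex.d (q + 1) q).hom ?_ ?_ f g hf hfg hg
    ((key M' q).1 (h' _ (by lia))) ((key M (q + 1)).1 (h _ (by lia))))
  · exact congrArg ModuleCat.Hom.hom (R.complex.d_comp_d (q + 3) (q + 2) (q + 1))
  · exact congrArg ModuleCat.Hom.hom (R.complex.d_comp_d (q + 2) (q + 1) q)

/-- flat base change -/
theorem tor_baseChange_iff {A B : Type u} [CommRing A] [CommRing B] [Algebra A B] [Module.Flat A B]
    (X : Type u) [AddCommGroup X] [Module A X] [Module B X] [IsScalarTower A B X]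
    (T : Type u) [AddCommGroup T] [Module A T] (q : ℕ) :
    Subsingleton (DRing.Tor B (q + 1) X (B ⊗[A] T)) ↔ Subsingleton (DRing.Tor A (q + 1) X T) := by
  let E := ModuleCat.extendScalars.{u, u, u} (algebraMap A B)
  haveI : PreservesFiniteLimits E :=
    ModuleCat.preservesFiniteLimits_extendScalars_of_flat (RingHom.flat_algebraMap_iff.mpr inferInstance)
  haveI : PreservesFiniteColimits E := inferInstance
  haveI : E.PreservesProjectiveObjects := Functor.preservesProjectiveObjects_of_adjunction_of_preservesEpimorphisms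
    (ModuleCat.extendRestrictScalarsAdj (algebraMap A B))
  let Q := projectiveResolution (ModuleCat.of A T)
  let Q' := E.mapProjectiveResolution Q
  have h1 : Subsingleton (DRing.Tor B (q + 1) X (B ⊗[A] T)) ↔
      IsZero (((CategoryTheory.Tor (ModuleCat.{u} B) (q + 1)).obj (ModuleCat.of B X)).obj (E.obj (ModuleCat.of A T))) :=
    ⟨fun hs => (@ModuleCat.isZero_of_subsingleton _ _ _ hs).of_iso
      (((CategoryTheory.Tor (ModuleCat.{u} B) (q + 1)).obj (ModuleCat.of B X)).mapIso (extendTensorIso T)),
     fun hz => ModuleCat.subsingleton_of_isZero (hz.of_iso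
      (((CategoryTheory.Tor (ModuleCat.{u} B) (q + 1)).obj (ModuleCat.of B X)).mapIso (extendTensorIso T).symm))⟩
  have h2 : Subsingleton (DRing.Tor A (q + 1) X T) ↔
      IsZero (((CategoryTheory.Tor (ModuleCat.{u} A) (q + 1)).obj (ModuleCat.of A X)).obj (ModuleCat.of A T)) :=
    ⟨fun hs => @ModuleCat.isZero_of_subsingleton _ _ _ hs, fun hz => ModuleCat.subsingleton_of_isZero hz⟩
  rw [h1, h2, tor_exact_iff X Q' q, tor_exact_iff X Q q]
  let e : ∀ Y : ModuleCat.{u} A, (X ⊗[B] (E.obj Y)) ≃+ (X ⊗[A] Y) := fun Y =>
    ((TensorProduct.congr (LinearEquiv.refl B X) (extendTensorIso Y).toLinearEquiv).trans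
      (TensorProduct.AlgebraTensorModule.cancelBaseChange A B B X Y)).toAddEquiv
  have hnat : ∀ {Y Y' : ModuleCat.{u} A} (φ : Y ⟶ Y') (z : X ⊗[B] (E.obj Y)),
      e Y' (LinearMap.lTensor X (E.map φ).hom z) = LinearMap.lTensor X φ.hom (e Y z) := by
    intro Y Y' φ z
    induction z using TensorProduct.induction_on with
    | zero => simp only [map_zero]
    | add a b ha hb => simp only [map_add, ha, hb]
    | tmul x y =>
      change (ModuleCat.restrictScalars.{u} (algebraMap A B)).obj (ModuleCat.of B B) ⊗[A] Y at y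
      induction y using TensorProduct.induction_on with
      | zero =>
        simp only [TensorProduct.tmul_zero, map_zero]
      | add a b ha hb =>
        exact ((congrArg (fun t => e Y' (LinearMap.lTensor X (E.map φ).hom t)) (TensorProduct.tmul_add x a b)).trans
          ((congrArg (e Y') (map_add _ _ _)).trans ((map_add _ _ _).trans (congrArg₂ (· + ·) ha hb)))).trans
          ((congrArg (fun t => LinearMap.lTensor X φ.hom (e Y t)) (TensorProduct.tmul_add x a b)).trans
          ((congrArg (LinearMap.lTensor X φ.hom) (map_add _ _ _)).trans (map_add _ _ _))).symm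
      | tmul b y => rfl
  constructor
  · intro h z
    constructor
    · intro hz
      obtain ⟨w, hw⟩ := (h ((e _).symm z)).1 ((e _).injective (by
        rw [map_zero]
        refine (hnat (Q.complex.d (q + 1) q) _).trans ?_
        rw [AddEquiv.apply_symm_apply]
        exact hz))
      refine ⟨e _ w, ?_⟩
      rw [← (e _).apply_symm_apply z, ← hw]
      exact (hnat (Q.complex.d (q + 2) (q + 1)) w).symm
    · rintro ⟨w, rfl⟩
      rw [← LinearMap.comp_apply, ← LinearMap.lTensor_comp, ← ModuleCat.hom_comp, HomologicalComplex.d_comp_d,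
        ModuleCat.hom_zero, LinearMap.lTensor_zero, LinearMap.zero_apply]
  · intro h z
    constructor
    · intro hz
      obtain ⟨w, hw⟩ := (h (e _ z)).1 (((hnat (Q.complex.d (q + 1) q) z).symm).trans
        ((congrArg (e _) hz).trans (map_zero _)))
      refine ⟨(e _).symm w, (e _).injective ?_⟩
      refine (hnat (Q.complex.d (q + 2) (q + 1)) _).trans ?_
      rw [AddEquiv.apply_symm_apply]
      exact hw
    · rintro ⟨w, rfl⟩
      rw [← LinearMap.comp_apply, ← LinearMap.lTensor_comp, ← ModuleCat.hom_comp, HomologicalComplex.d_comp_d,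
        ModuleCat.hom_zero, LinearMap.lTensor_zero, LinearMap.zero_apply]

end Groth.Agent.TorCI
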